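import Groth.Agent.H17.GenericStalk
import Groth.Agent.H17.Dim
import Groth.Agent.H25Par.FibKer
import Groth.Agent.H11Ample.Basic
import Groth.Agent.H29CurveDual.SingularVanish

/-!
# The nonclosed points of a reduced scheme of dimension at most one
-/

set_option autoImplicit false
set_option linter.style.haveILetI false

universe u

open CategoryTheory CategoryTheory.Limits AlgebraicGeometry TopologicalSpace Opposite

namespace Groth.Agent.H29CurveDual.Subcurve

attribute [local instance] specializationOrder

variable {X : Scheme.{u}}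

theorem mem_genericPoints_of_not_isClosed (hdim : topologicalKrullDim X ≤ 1) {η : X}
    (hη : ¬ IsClosed ({η} : Set X)) : η ∈ genericPoints X := by
  rw [H17.topologicalKrullDim_eq_krullDim_specialization] at hdim
  rcases Order.krullDim_le_one_iff.1 hdim η with h | h
  · refine absurd (closure_subset_iff_isClosed.1 fun z hz => ?_) hη
    have hz' : η ⤳ z := specializes_iff_mem_closure.2 hz
    exact ((h (show z ≤ η from hz')).antisymm hz').symm
  · exact H8Props.mem_genericPoints_iff.2 fun z hz => (h (show η ≤ z from hz)).antisymm hz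

theorem isField_stalk [IsReduced X] (hdim : topologicalKrullDim X ≤ 1) {η : X}
    (hη : ¬ IsClosed ({η} : Set X)) : IsField (X.presheaf.stalk η) :=
  H17.isField_stalk_generic X (mem_genericPoints_of_not_isClosed hdim hη) inferInstance

/-- A closed set of closed points is finite. -/
theorem finite_of_closed_points [IsNoetherian X] {S : Set X} (hS : IsClosed S)
    (h : ∀ z ∈ S, IsClosed ({z} : Set X)) : S.Finite := by
  haveI : QuasiSober S := hS.isClosedEmbedding_subtypeVal.quasiSober
  haveI : CompactSpace S := isCompact_iff_compactSpace.mp hS.isCompact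
  haveI : NoetherianSpace S := Topology.IsInducing.subtypeVal.noetherianSpace
  obtain ⟨C, hC, hcl, hir, hU⟩ := NoetherianSpace.exists_finite_set_isClosed_irreducible (α := S) isClosed_univ
  refine ((hC.biUnion fun Z hZ => ?_ : (⋃ Z ∈ C, Subtype.val '' Z).Finite)).subset ?_
  · obtain ⟨g, hg⟩ := QuasiSober.sober (hir Z hZ) (hcl Z hZ)
    refine (Set.finite_singleton g.1).subset ?_
    rintro _ ⟨z, hz, rfl⟩
    have h1 : g.1 ⤳ z.1 := (hg.specializes hz).map continuous_subtype_val
    exact (h g.1 g.2).closure_subset (specializes_iff_mem_closure.1 h1)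
  · intro z hz
    obtain ⟨Z, hZ, hzZ⟩ : (⟨z, hz⟩ : S) ∈ ⋃₀ C := hU ▸ trivial
    exact Set.mem_biUnion hZ ⟨⟨z, hz⟩, hzZ, rfl⟩

/-- A module without stalks at the nonclosed points has no higher cohomology. -/
theorem subsingleton_HH_one [IsNoetherian X] {M : X.Modules} (hM : Coh.IsCoh M)
    (h : ∀ η : X, ¬ IsClosed ({η} : Set X) → Subsingleton (M.presheaf.stalk η)) :
    (CohB1.support M).Finite ∧ (∀ z ∈ CohB1.support M, IsClosed ({z} : Set X)) ∧ Subsingleton (Coh.HH X M 1) := by
  have hcl : ∀ z ∈ CohB1.support M, IsClosed ({z} : Set X) := fun z hz => by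
    by_contra hne
    exact hz (h z hne)
  have hfin := finite_of_closed_points (H10Coh.isClosed_support _ hM.2) hcl
  exact ⟨hfin, hcl, H25Par.subsingleton_HH_of_finite_support _ hfin hcl (fun y hy => not_not.1 hy) Nat.one_pos⟩

/-- An epimorphism out of an invertible module is bijective on stalks at nonclosed points of the support. -/
theorem bijective_stalk_of_epi [IsReduced X] (hdim : topologicalKrullDim X ≤ 1) {L B : X.Modules}
    (hL : PicF.IsInvertible L) (p : L ⟶ B) [Epi p] {η : X} (hη : ¬ IsClosed ({η} : Set X))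
    (hB : Nontrivial (B.presheaf.stalk η)) :
    Function.Bijective ((DerSch.stalkFunctor X η).map p).hom := by
  have hsurj : Function.Surjective ((DerSch.stalkFunctor X η).map p).hom :=
    (ModuleCat.epi_iff_surjective _).1 (inferInstance : Epi ((DerSch.stalkFunctor X η).map p))
  refine ⟨(injective_iff_map_eq_zero _).2 fun z hz => ?_, hsurj⟩
  obtain ⟨V, e, hηV, he⟩ := H11Ample.exists_gen hL η
  let f := ((DerSch.stalkFunctor X η).map p).hom
  let g : ((DerSch.stalkFunctor X η).obj L : ModuleCat (X.presheaf.stalk η)) := L.presheaf.germ V η hηV e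
  have hgen : ∀ w : ((DerSch.stalkFunctor X η).obj L : ModuleCat (X.presheaf.stalk η)), ∃ c : X.presheaf.stalk η, c • g = w :=
    fun w => (he η hηV).2 w
  obtain ⟨a, rfl⟩ := hgen z
  by_contra hne
  have ha : a ≠ 0 := fun h0 => hne (by rw [h0, zero_smul])
  obtain ⟨b, hb⟩ := (isField_stalk hdim hη).mul_inv_cancel ha
  obtain ⟨y, hy⟩ := exists_ne (0 : B.presheaf.stalk η)
  obtain ⟨w, rfl⟩ := hsurj y
  obtain ⟨c, rfl⟩ := hgen w
  refine hy ?_
  have hz' : a • f g = 0 := (f.map_smul a g).symm.trans hz
  have h1 : f g = 0 := by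
    rw [← one_smul (X.presheaf.stalk η) (f g), ← hb, mul_comm, mul_smul, hz', smul_zero]
  exact (f.map_smul c g).trans ((congrArg (c • ·) h1).trans (smul_zero _))

end Groth.Agent.H29CurveDual.Subcurve
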