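import Groth.Agent.H29CurveDual.Subcurve.Minimal
import Groth.Agent.H29RR.Degree

/-!
# The degree on a special subcurve
-/

set_option autoImplicit false
set_option linter.style.haveILetI false

universe u

open CategoryTheory CategoryTheory.Limits AlgebraicGeometry TopologicalSpace Opposite
open Groth.Agent.H29RR Groth.Agent.H06Mod

namespace Groth.Agent.H29CurveDual.Subcurve

attribute [local instance 10000] H10Coh.hasSheafifyAb H10Coh.hasWeakSheafifyAb H10Coh.hasExtAb H10Coh.enoughInjAb

/-- A disconnected scheme has orthogonal nonzero functions. -/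
theorem exists_orthogonal {Y : Scheme.{u}} (h : ¬ PreconnectedSpace Y) :
    ∃ e f : Γ(Y, ⊤), e ≠ 0 ∧ f ≠ 0 ∧ e * f = 0 := by
  classical
  obtain ⟨s, hs, hne, hnu⟩ : ∃ s : Set Y, IsClopen s ∧ s ≠ ∅ ∧ s ≠ Set.univ := by
    by_contra hc
    push Not at hc
    refine h (preconnectedSpace_iff_clopen.2 fun s hs => ?_)
    by_cases he : s = ∅
    · exact Or.inl he
    · exact Or.inr (hc s hs (Set.nonempty_iff_ne_empty.2 he))
  let U : ULift.{u} Bool → Y.Opens := fun b =>
    if b.down then ⟨s, hs.isOpen⟩ else ⟨sᶜ, hs.isClosed.isOpen_compl⟩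
  have hcov : (⊤ : Y.Opens) ≤ iSup U := fun y _ => by
    refine Opens.mem_iSup.2 ?_
    by_cases hy : y ∈ s
    · exact ⟨⟨true⟩, hy⟩
    · exact ⟨⟨false⟩, hy⟩
  have hdisj : ∀ {a b : ULift.{u} Bool}, a ≠ b → U a ⊓ U b ≤ ⊥ := fun {a b} hab y hy => by
    obtain ⟨(_ | _)⟩ := a <;> obtain ⟨(_ | _)⟩ := b
    · exact absurd rfl hab
    · exact absurd hy.2 hy.1
    · exact absurd hy.1 hy.2
    · exact absurd rfl hab
  have glue : ∀ c : ULift.{u} Bool → Bool, ∃ e : Γ(Y, ⊤), ∀ b : ULift.{u} Bool,
      Y.presheaf.map (homOfLE (le_top : U b ≤ ⊤)).op e = if c b then 1 else 0 := by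
    intro c
    obtain ⟨e, he, -⟩ := Y.sheaf.existsUnique_gluing' U ⊤ (fun b => homOfLE le_top) hcov
      (fun b => (if c b then 1 else 0 : Γ(Y, U b))) fun a b => by
        by_cases hab : a = b
        · subst hab; rfl
        · have hsub : Subsingleton Γ(Y, U a ⊓ U b) := by
            rw [eq_bot_iff.2 (hdisj hab)]
            exact CommRingCat.subsingleton_of_isTerminal Y.sheaf.isTerminalOfEmpty
          exact @Subsingleton.elim _ hsub _ _
    exact ⟨e, he⟩
  obtain ⟨e, he⟩ := glue fun b => b.down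
  obtain ⟨f, hf⟩ := glue fun b => !b.down
  have hnt : ∀ b, Nonempty (U b) := by
    rintro ⟨(_ | _)⟩
    · obtain ⟨y, hy⟩ := (Set.ne_univ_iff_exists_notMem s).1 hnu
      exact ⟨⟨y, hy⟩⟩
    · obtain ⟨y, hy⟩ := Set.nonempty_iff_ne_empty.2 hne
      exact ⟨⟨y, hy⟩⟩
  refine ⟨e, f, fun h0 => ?_, fun h0 => ?_, TopCat.Sheaf.eq_of_locally_eq' Y.sheaf U ⊤
    (fun b => homOfLE le_top) hcov _ _ fun b => ?_⟩
  · haveI := hnt ⟨true⟩
    haveI := Y.component_nontrivial (U ⟨true⟩)
    have h1 := he ⟨true⟩
    rw [h0, map_zero] at h1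
    exact zero_ne_one h1
  · haveI := hnt ⟨false⟩
    haveI := Y.component_nontrivial (U ⟨false⟩)
    have h1 := hf ⟨false⟩
    rw [h0, map_zero] at h1
    exact zero_ne_one h1
  · show Y.presheaf.map (homOfLE (le_top : U b ≤ ⊤)).op (e * f) =
      Y.presheaf.map (homOfLE (le_top : U b ≤ ⊤)).op 0
    rw [map_mul, he, hf, map_zero]
    obtain ⟨(_ | _)⟩ := b <;> simp

variable {k : Type u} [Field k] {X : Scheme.{u}} [X.Over (Spec (CommRingCat.of k))]
  [IsProper (X ↘ Spec (CommRingCat.of k))] [IsReduced X] (hdim : topologicalKrullDim X ≤ 1)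
  (Z : X.IdealSheafData) (hZ : ∀ η : X, ¬ IsClosed ({η} : Set X) → η ∉ Z.support)
  {L : X.Modules} (hL : PicF.IsInvertible L)

include hdim hZ hL in
theorem connectedSpace_of_minimal {W : Closeds X} (hW : IsPure W) (hmin : IsMinimal k Z L W)
    (hn : Nontrivial (Coh.HH X (sub Z (res L W)) 1)) : ConnectedSpace (idl W).subscheme := by
  haveI := isNoetherian_of_proper (k := k) (X := X)
  have hne : (W : Set X).Nonempty := by
    by_contra he
    obtain ⟨-, -, h1⟩ := subsingleton_HH_one (isCoh_sub Z (isCoh_res hL W)) fun η _ => by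
      refine H25Par.subsingleton_stalk_of_mono (subι Z (res L W))
        (not_nontrivial_iff_subsingleton.1 fun h => he ⟨η, (nontrivial_stalk_res_iff hL W η).1 h⟩)
    exact not_nontrivial_iff_subsingleton.2 h1 hn
  haveI : Nonempty (idl W).subscheme := by
    obtain ⟨x, hx⟩ := hne
    rw [← Scheme.IdealSheafData.coe_support_vanishingIdeal, ← Scheme.IdealSheafData.range_subschemeι] at hx
    obtain ⟨y, -⟩ := hx
    exact ⟨y⟩
  haveI : PreconnectedSpace (idl W).subscheme := by
    by_contra hc
    obtain ⟨e, f, he, hf, hef⟩ := exists_orthogonal hc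
    let P := Coh.push (idl W).subschemeι
    have hne0 : ∀ r : Γ((idl W).subscheme, ⊤), r ≠ 0 →
        P.map (scal (Coh.structureModule (idl W).subscheme) r) ≠ 0 := fun r hr h0 => hr (by
      have h1 := congrArg (fun φ => Scheme.Modules.Hom.app φ (⊤ : X.Opens)) h0
      have h2 := ConcreteCategory.congr_hom h1 (show Γ((idl W).subscheme, ⊤) from 1)
      change (scal (Coh.structureModule (idl W).subscheme) r).app ⊤ (show Γ((idl W).subscheme, ⊤) from 1) = 0 at h2
      rw [scal_app] at h2
      exact (mul_one r).symm.trans ((congrArg (· * 1) (congr($((idl W).subscheme.presheaf.map_id (op ⊤)) r)).symm).trans h2))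
    refine comp_ne_zero_of_minimal (k := k) hdim Z hZ hL hW hmin hn (hne0 f hf) (hne0 e he) ?_
    rw [← P.map_comp, ← scal_mul, hef, scal_zero, P.map_zero]
  exact ⟨‹_›⟩

/-- The subscheme over the ground field. -/
noncomputable abbrev overW (k : Type u) [Field k] [X.Over (Spec (CommRingCat.of k))] (W : Closeds X) :
    (idl W).subscheme.Over (Spec (CommRingCat.of k)) :=
  ⟨(idl W).subschemeι ≫ (X ↘ Spec (CommRingCat.of k))⟩

include hL in
omit [IsProper (X ↘ Spec (CommRingCat.of k))] [IsReduced X] in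
theorem euler_res (W : Closeds X) :
    letI := overW k W
    Curv2.euler k X (res L W) =
      Curv2.euler k (idl W).subscheme ((Scheme.Modules.pullback (idl W).subschemeι).obj L) := by
  letI := overW k W
  obtain ⟨e⟩ := H10Coh.Tw.nonempty_push_tensor_iso (idl W).subschemeι (Coh.structureModule (idl W).subscheme) hL
  have hM := H11Ample.isInvertible_pullback (idl W).subschemeι hL
  haveI : ((Scheme.Modules.pullback (idl W).subschemeι).obj L).IsQuasicoherent :=
    H28Mero.isQCoh_of_isInvertible hM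
  exact (H25Euler.euler_congr (k := k) (e ≪≫ (Coh.push (idl W).subschemeι).mapIso
    (H10Coh.Tw.leftUnitIso _))).trans (H28Int.Push.euler_push k (idl W).subschemeι rfl _)

omit [IsProper (X ↘ Spec (CommRingCat.of k))] [IsReduced X] in
theorem euler_quot (W : Closeds X) :
    letI := overW k W
    Curv2.euler k X (ClSub.quotMod (idl W)) =
      Curv2.euler k (idl W).subscheme (Coh.structureModule (idl W).subscheme) := by
  letI := overW k W
  haveI : (Coh.structureModule (idl W).subscheme).IsQuasicoherent := H10Coh.isQuasicoherent_unit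
  exact H28Int.Push.euler_push k (idl W).subschemeι rfl _

include hdim hZ hL in
omit [IsReduced X] in
theorem euler_sub (W : Closeds X) :
    Curv2.euler k X (res L W) = Curv2.euler k X (sub Z (res L W)) +
      (Module.finrank k (Coh.HH X (ClSub.quotMod (Z ⊔ idl W)) 0) : ℤ) := by
  haveI := isNoetherian_of_proper (k := k) (X := X)
  let Q := ClSub.quotMod (Z ⊔ idl W)
  haveI := epi_resProj Z (res L W)
  obtain ⟨eq⟩ := H28Vert.nonempty_quotTensorIso (idl W) Z
  have eD : ParSh.resD Z (res L W) ≅ CohB1.tensorMod Q L :=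
    H10Coh.Tw.assoc _ _ _ ≪≫ PicGrp.tensorModIso (Iso.refl _) (H10Coh.Tw.commIso L (ClSub.quotMod Z)) ≪≫
      (H10Coh.Tw.assoc _ _ _).symm ≪≫
        PicGrp.tensorModIso (eq ≪≫ eqToIso (by rw [sup_comm])) (Iso.refl L)
  have hsupp : CohB1.support Q ⊆ (Z.support : Set X) := by
    rw [mem_support_quot]
    exact Scheme.IdealSheafData.support_antitone le_sup_left
  have hcl : ∀ z ∈ CohB1.support Q, IsClosed ({z} : Set X) := fun z hz => by
    by_contra hne
    exact hZ z hne (hsupp hz)
  have hQc : Coh.IsCoh Q := LeadDev.isCoh_push_structure (Z ⊔ idl W).subschemeι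
  have hfin := finite_of_closed_points (H10Coh.isClosed_support _ hQc.2) hcl
  have hD : Coh.IsCoh (ParSh.resD Z (res L W)) :=
    H10Coh.isCoh_of_iso eD.symm (H11Ample.isCoh_tensor hQc hL)
  have h := H25Euler.euler_add (k := k) (X := X) (H10Coh.shortExact_kernel (H25Par.resProj Z (res L W)))
    (isCoh_sub Z (isCoh_res hL W)) (isCoh_res hL W) hD
  have h' : Curv2.euler k X (res L W) = Curv2.euler k X (sub Z (res L W)) +
      Curv2.euler k X (ParSh.resD Z (res L W)) := h
  rw [h', H25Euler.euler_congr eD, H25Euler.euler_eq_sum (CohB1.tensorMod Q L) 1 fun p hp =>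
      H25Par.subsingleton_HH_of_finite_support _ (hfin.subset (H25Euler.support_tensor_subset Q L))
        (fun z hz => hcl z (H25Euler.support_tensor_subset Q L hz)) (fun y hy => not_not.1 hy) hp,
    Finset.sum_range_one, pow_zero, one_mul, finrank_h0_tensor_of_finite_support hL hfin hcl]

include hdim hZ hL in
omit [IsReduced X] in
/-- The degree through the twisted ideal. -/
theorem deg_le_of_h0 (W : Closeds X) {d : ℕ}
    (h0 : Module.finrank k (Coh.HH X (sub Z (res L W)) 0) ≤
      Module.finrank k (Coh.HH X (ClSub.quotMod (idl W)) 1))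
    (h1 : d ≤ Module.finrank k (Coh.HH X (sub Z (res L W)) 1)) :
    letI := overW k W
    Curv2.deg k (idl W).subscheme ((Scheme.Modules.pullback (idl W).subschemeι).obj L) 1 ≤
      -2 * Curv2.euler k (idl W).subscheme (Coh.structureModule (idl W).subscheme) +
        Module.finrank k (Coh.HH X (ClSub.quotMod (Z ⊔ idl W)) 0) +
          ((Module.finrank k (Coh.HH X (ClSub.quotMod (idl W)) 0) : ℤ) - d) := by
  letI := overW k W
  rw [deg_def, ← euler_res hL W, euler_sub hdim Z hZ hL W, ← euler_quot (k := k) W,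
    euler_eq_sub (k := k) hdim (sub Z (res L W)), euler_eq_sub (k := k) hdim (ClSub.quotMod (idl W))]
  omega

omit [IsReduced X] in
include hdim in
theorem dim_subscheme {W : Closeds X} (hW : IsPure W) (hne : (W : Set X).Nonempty) :
    topologicalKrullDim (idl W).subscheme = 1 := by
  let ι := (idl W).subschemeι
  refine le_antisymm ((ι.isEmbedding.isInducing.topologicalKrullDim_le).trans hdim) ?_
  obtain ⟨x, hx⟩ := hne
  obtain ⟨η, -, hηW, hη⟩ := mem_closure_iff.1 (hW hx) Set.univ isOpen_univ trivial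
  have hrange : Set.range ι = (W : Set X) := by
    rw [Scheme.IdealSheafData.range_subschemeι, Scheme.IdealSheafData.coe_support_vanishingIdeal]
  obtain ⟨a, ha⟩ : η ∈ Set.range ι := hrange.ge hηW
  obtain ⟨z, hz, hne'⟩ : ∃ z, η ⤳ z ∧ z ≠ η := by
    by_contra hc
    push Not at hc
    refine hη (closure_subset_iff_isClosed.1 fun z hz => ?_)
    exact hc z (specializes_iff_mem_closure.2 hz)
  obtain ⟨b, hb⟩ : z ∈ Set.range ι := hrange.ge (hz.mem_closed W.isClosed hηW)
  rw [H17.topologicalKrullDim_eq_krullDim_specialization]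
  letI := specializationOrder (idl W).subscheme
  refine Order.one_le_krullDim_iff.2 ⟨b, a, lt_of_le_of_ne ?_ fun e => hne' (by rw [← ha, ← hb, e])⟩
  show a ⤳ b
  rw [← ι.isEmbedding.isInducing.specializes_iff, ha, hb]
  exact hz

end Groth.Agent.H29CurveDual.Subcurve
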