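import Groth.Agent.H29CurveDual.Subcurve.Rank
import Groth.Agent.H29CurveDual.PointGen
import Groth.Agent.H29RR.Generation
import Groth.Agent.H29RR.DetTrivial
import Groth.Agent.S1605

/-!
# Global generation on reduced curves from the degrees on the connected subcurves
-/

set_option autoImplicit false
set_option linter.style.haveILetI false

universe u

open CategoryTheory CategoryTheory.Limits AlgebraicGeometry TopologicalSpace Opposite
open Groth.Agent.H29RR Groth.Agent.H06Mod

namespace Groth.Agent.H29CurveDual.Subcurve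

attribute [local instance 10000] H10Coh.hasSheafifyAb H10Coh.hasWeakSheafifyAb H10Coh.hasExtAb H10Coh.enoughInjAb
attribute [local instance] Curv2.resAlgebra

variable {X : Scheme.{u}}

/-- Restricting to a part is bijective away from the rest. -/
theorem bijective_stalk_resMap_of_notMem [IsReduced X] [IsNoetherian X] (hdim : topologicalKrullDim X ≤ 1)
    {L : X.Modules} (hL : PicF.IsInvertible L) {W W' : Closeds X} (hW : IsPure W) (h : W' ≤ W) (C : Closeds X)
    (hC : W ≤ W' ⊔ C) {y : X} (hy : y ∉ C) : Function.Bijective (stalkLin (resMap hL h) y) := by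
  haveI := epi_resMap hL h
  refine ⟨(injective_iff_map_eq_zero _).2 fun a ha => ?_, surjective_stalk_of_epi _ y⟩
  obtain ⟨U, hU, a, rfl⟩ := (res L W).presheaf.exists_germ_eq a
  rw [stalkLin_germ, ← map_zero ((res L W').presheaf.germ U y hU).hom] at ha
  obtain ⟨V, hyV, i, i', heq⟩ := TopCat.Presheaf.germ_eq (res L W').presheaf _ hU hU _ 0 ha
  let V' : X.Opens := V ⊓ ⟨(C : Set X)ᶜ, C.isClosed.isOpen_compl⟩
  have h0 : (res L W).presheaf.map (homOfLE (inf_le_left.trans i.le : V' ≤ U)).op a = 0 := by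
    refine res_section_eq_zero hL hW _ fun η hηV hη => ?_
    rw [TopCat.Presheaf.germ_res_apply]
    by_cases hm : η ∈ W'
    · refine (bijective_stalk_resMap hdim hL (resMap hL h) (resMap_fac hL h) hη hm).1 ?_
      show stalkLin (resMap hL h) η _ = stalkLin (resMap hL h) η 0
      rw [stalkLin_germ, map_zero, ← TopCat.Presheaf.germ_res_apply (res L W').presheaf i η hηV.1]
      rw [map_zero] at heq
      exact (congrArg _ heq).trans (map_zero _)
    · haveI : Subsingleton ((res L W).presheaf.stalk η) :=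
        not_nontrivial_iff_subsingleton.1 fun hn => ((hC ((nontrivial_stalk_res_iff hL W η).1 hn)).elim hm hηV.2)
      exact Subsingleton.elim _ _
  rw [← TopCat.Presheaf.germ_res_apply (res L W).presheaf (homOfLE (inf_le_left.trans i.le : V' ≤ U)) y
    (show y ∈ V' from ⟨hyV, hy⟩) a, h0, map_zero]

variable {k : Type u} [Field k] [X.Over (Spec (CommRingCat.of k))] [IsProper (X ↘ Spec (CommRingCat.of k))]
  [IsReduced X]

/-- A clopen part away from the twisting ideal splits off in first cohomology. -/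
theorem injective_hhlin_subMap (hdim : topologicalKrullDim X ≤ 1) (Z : X.IdealSheafData) {L : X.Modules}
    (hL : PicF.IsInvertible L) {W W₁ W₂ : Closeds X} (hW : IsPure W) (h₁ : W₁ ≤ W) (h₂ : W₂ ≤ W)
    (hcov : W ≤ W₁ ⊔ W₂) (hdisj : ∀ y ∈ W₁, y ∉ W₂) (hZ₂ : ∀ y ∈ W₂, y ∉ Z.support)
    [Subsingleton (Coh.HH X (res L W₂) 1)] :
    Function.Injective (Canon.HHlin k (subMap Z (resMap hL h₁)) 1) := by
  haveI := isNoetherian_of_proper (k := k) (X := X)
  haveI := epi_resMap hL h₁
  haveI := epi_subMap Z (resMap hL h₁)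
  haveI := epi_resProj Z (res L W)
  have hres0 : ∀ {S : Closeds X} {y : X}, y ∉ S → Subsingleton ((res L S).presheaf.stalk y) := fun {S y} hy =>
    not_nontrivial_iff_subsingleton.1 fun hn => hy ((nontrivial_stalk_res_iff hL S y).1 hn)
  let g : sub Z (res L W) ⟶ sub Z (res L W₁) := subMap Z (resMap hL h₁)
  let c : kernel g ⟶ res L W₂ := kernel.ι g ≫ subι Z (res L W) ≫ resMap hL h₂
  have hinj₁ : ∀ y, Function.Injective (stalkLin (kernel.ι g) y) := fun y =>
    stalk_injective _ (H10Coh.shortExact_kernel g) y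
  have hinj₂ : ∀ y, Function.Injective (stalkLin (subι Z (res L W)) y) := fun y =>
    stalk_injective _ (H10Coh.shortExact_kernel (H25Par.resProj Z (res L W))) y
  have hz : (kernel.ι g ≫ subι Z (res L W)) ≫ resMap hL h₁ = 0 := by
    rw [Category.assoc, ← subMap_ι, ← Category.assoc, kernel.condition, zero_comp]
  have hc : ∀ y, Function.Bijective (stalkLin c y) := fun y => by
    by_cases hy : y ∈ W₂
    · have hy₁ : y ∉ W₁ := fun h => hdisj y h hy
      have h1 := bijective_stalk_kernelι g (x := y)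
        (H25Par.subsingleton_stalk_of_mono (subι Z (res L W₁)) (hres0 hy₁))
      have h2 := bijective_stalk_subι Z (res L W) (hZ₂ y hy)
      have h3 := bijective_stalk_resMap_of_notMem hdim hL hW h₂ W₁ (hcov.trans_eq (sup_comm _ _)) hy₁
      refine (congrArg Function.Bijective (funext fun b => ?_)).mp ((h3.comp h2).comp h1)
      refine Eq.symm ?_
      refine (stalkLin_comp (kernel.ι g) (subι Z (res L W) ≫ resMap hL h₂) y b).trans ?_
      exact stalkLin_comp (subι Z (res L W)) (resMap hL h₂) y _
    · have h3 := bijective_stalk_resMap_of_notMem hdim hL hW h₁ W₂ hcov hy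
      haveI : Subsingleton ((kernel g).presheaf.stalk y) := subsingleton_of_forall_eq 0 fun b => by
        have h5 : stalkLin (subι Z (res L W)) y (stalkLin (kernel.ι g) y b) = 0 := by
          refine h3.1 ?_
          rw [map_zero, ← stalkLin_comp (kernel.ι g), ← stalkLin_comp, hz]
          exact stalkLin_zero_apply y b
        exact hinj₁ y ((hinj₂ y (h5.trans (map_zero _).symm)).trans (map_zero _).symm)
      haveI := hres0 hy
      exact ⟨fun a b _ => Subsingleton.elim _ _, fun b => ⟨0, Subsingleton.elim _ _⟩⟩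
  haveI : IsIso c := isIso_of_bijective_stalks c hc
  haveI : Subsingleton (Coh.HH X (kernel g) 1) := (hhIso (k := k) (asIso c) 1).toEquiv.subsingleton
  refine (injective_iff_map_eq_zero _).2 fun a ha => ?_
  obtain ⟨b, rfl⟩ := Abelian.Ext.covariant_sequence_exact₂ _ (H10Coh.shortExact_sh (H10Coh.shortExact_kernel g)) a ha
  rw [show b = 0 from @Subsingleton.elim (Coh.HH X (kernel g) 1) ‹_› _ _]
  exact map_zero (Canon.HHlin k (kernel.ι g) 1)

/-- Degree at least twice the genus on every connected subcurve gives global generation. -/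
theorem isGloballyGenerated_of_deg_ge_subcurves [ConnectedSpace X] (hdim : topologicalKrullDim X = 1)
    {L : X.Modules} (hL : PicF.IsInvertible L)
    (h : ∀ J : X.IdealSheafData, IsReduced J.subscheme → ConnectedSpace J.subscheme →
      topologicalKrullDim J.subscheme = 1 →
      2 * (@Curv2.genus k _ J.subscheme ⟨J.subschemeι ≫ (X ↘ (Spec (CommRingCat.of k)))⟩ : ℤ) ≤
        @Curv2.deg k _ J.subscheme ⟨J.subschemeι ≫ (X ↘ (Spec (CommRingCat.of k)))⟩
          ((Scheme.Modules.pullback J.subschemeι).obj L) 1) :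
    Curv2.IsGloballyGenerated L := by
  classical
  haveI := isNoetherian_of_proper (k := k) (X := X)
  have hLc := H16Derived.KFlat.Stalk.isCoh_of_isFinLocFree (H28Pinch.isFinLocFree_of_isInvertible hL)
  have hfact : ∀ J : X.IdealSheafData, IsReduced J.subscheme → ConnectedSpace J.subscheme →
      topologicalKrullDim J.subscheme = 1 →
      letI : J.subscheme.Over (Spec (CommRingCat.of k)) := ⟨J.subschemeι ≫ (X ↘ (Spec (CommRingCat.of k)))⟩
      0 < Module.finrank k (Coh.HH J.subscheme (Coh.structureModule J.subscheme) 0) ∧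
        Curv2.euler k J.subscheme (Coh.structureModule J.subscheme) =
          (Module.finrank k (Coh.HH J.subscheme (Coh.structureModule J.subscheme) 0) : ℤ) -
            Curv2.genus k J.subscheme := by
    intro J _ _ hJd
    letI : J.subscheme.Over (Spec (CommRingCat.of k)) := ⟨J.subschemeι ≫ (X ↘ (Spec (CommRingCat.of k)))⟩
    haveI : IsProper (J.subscheme ↘ Spec (CommRingCat.of k)) :=
      inferInstanceAs (IsProper (J.subschemeι ≫ (X ↘ Spec (CommRingCat.of k))))
    refine ⟨?_, euler_eq_sub (k := k) hJd.le _⟩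
    haveI := H10Coh.finite_HH_proper k J.subscheme _ (H10Coh.isCoh_structureModule' J.subscheme) 0
    haveI : Nontrivial Γ(J.subscheme, ⊤) := by
      haveI : Nonempty (⊤ : J.subscheme.Opens) := ⟨⟨(Nonempty.some inferInstance : J.subscheme), trivial⟩⟩
      exact J.subscheme.component_nontrivial ⊤
    haveI : Nontrivial (Coh.HH J.subscheme (Coh.structureModule J.subscheme) 0) :=
      haveI : Nontrivial Γ(Coh.structureModule J.subscheme, ⊤) := ‹Nontrivial Γ(J.subscheme, ⊤)›
      (sec (Coh.structureModule J.subscheme)).toEquiv.nontrivial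
    exact Module.finrank_pos
  -- first cohomology vanishes
  haveI hH1 : Subsingleton (Coh.HH X L 1) := by
    rw [← not_nontrivial_iff_subsingleton]
    intro hn
    have hsupp : ∀ y : X, Subsingleton ((ClSub.quotMod (⊤ : X.IdealSheafData)).presheaf.stalk y) := fun y => by
      refine not_not.1 fun hy => ?_
      have := (mem_support_quot (⊤ : X.IdealSheafData)).le hy
      simp at this
    haveI := H10Coh.epi_toSubscheme (⊤ : X.IdealSheafData)
    haveI : IsIso (ClSub.idealModι (⊤ : X.IdealSheafData)) :=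
      isIso_of_bijective_stalks _ fun y => bijective_stalk_kernelι _ (hsupp y)
    let e : CohB1.tensorMod (ClSub.idealMod (⊤ : X.IdealSheafData)) L ≅ L :=
      PicGrp.tensorModIso (asIso (ClSub.idealModι (⊤ : X.IdealSheafData))) (Iso.refl L) ≪≫ H10Coh.Tw.leftUnitIso L
    obtain ⟨J, hJr, hJc, hJd, hle⟩ := Groth.Agent.S1605.result k X hdim L hL ⊤
      (by
        have he : ((⊤ : X.IdealSheafData).support : Set X) = ∅ := by simp
        rw [he]; exact topologicalKrullDim_zero_of_discreteTopology _)
      ((hhIso (k := k) e 1).toEquiv.nontrivial)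
    have h0 : Module.finrank k (Coh.HH X (ClSub.quotMod ((⊤ : X.IdealSheafData) ⊔ J)) 0) = 0 := by
      rw [top_sup_eq]
      have hz : (𝟙 (ClSub.quotMod (⊤ : X.IdealSheafData))) = 0 := (H16Derived.KFlat.Stalk.isZero_of_stalk fun y => by
        haveI : Subsingleton ((DerSch.stalkFunctor X y).obj (ClSub.quotMod (⊤ : X.IdealSheafData))) := hsupp y
        exact ModuleCat.isZero_of_subsingleton _).eq_of_src _ _
      haveI : Subsingleton (Coh.HH X (ClSub.quotMod (⊤ : X.IdealSheafData)) 0) := subsingleton_of_forall_eq 0 fun v => by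
        rw [← H29RR.hhlin_id (k := k) _ 0 v, hz, H29RR.hhlin_zero]
      exact Module.finrank_zero_of_subsingleton
    obtain ⟨hpos, hχ⟩ := hfact J hJr hJc hJd
    have := h J hJr hJc hJd
    rw [h0, hχ] at hle
    omega
  refine isGloballyGenerated_of_closedPoints hL fun x hx => ?_
  by_contra hno
  let Z := ptIdeal x
  let d := Module.finrank k (X.residueField x)
  have hQ : Coh.IsCoh (ClSub.quotMod Z) := LeadDev.isCoh_push_structure Z.subschemeι
  have hQd : Module.finrank k (Coh.HH X (ClSub.quotMod Z) 0) = d := finrank_h0_quotMod_pt (k := k) hx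
  have hd : 0 < d := by
    haveI : Module.Finite k (Coh.HH X (ClSub.quotMod Z) 0) := H10Coh.finite_HH_proper k X _ hQ 0
    haveI : Module.Finite k (X.residueField x) := Module.Finite.equiv (nonempty_quotMod_pt_equiv (k := k) hx).some
    exact Module.finrank_pos
  have hsupp : (Z.support : Set X) = {x} := by
    rw [← Scheme.IdealSheafData.range_subschemeι, range_subscheme_pt hx]
  have hZ : ∀ η : X, ¬ IsClosed ({η} : Set X) → η ∉ Z.support := fun η hη hm => by
    rw [← SetLike.mem_coe, hsupp, Set.mem_singleton_iff] at hm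
    exact hη (hm ▸ hx)
  have hle := fun hlt => hno (exists_mem_gen_of_h0_lt (k := k) hx hL
    (H10Coh.isCoh_kernel _ (H10Coh.isCoh_structureModule' _) hQ.1) hlt)
  replace hle := not_lt.1 hle
  have htop : d ≤ Module.finrank k (Coh.HH X (sub Z (res L (⊤ : Closeds X))) 1) := by
    obtain ⟨e⟩ := nonempty_sub_top_iso Z hL
    haveI := isIso_proj_top L
    have h1 := euler_sub (k := k) hdim.le Z hZ hL (⊤ : Closeds X)
    have hbot : idl (⊤ : Closeds X) = ⊥ := by
      rw [idl, Scheme.IdealSheafData.vanishingIdeal_top, Scheme.nilradical_eq_bot]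
    rw [hbot, sup_bot_eq, hQd, ← H25Euler.euler_congr (asIso (proj L (⊤ : Closeds X))),
      euler_eq_sub (k := k) hdim.le L, euler_eq_sub (k := k) hdim.le (sub Z _),
      Module.finrank_zero_of_subsingleton (R := k) (M := Coh.HH X L 1)] at h1
    rw [(hhIso (k := k) e 0).finrank_eq] at hle
    omega
  obtain ⟨W, ⟨hW, hWd⟩, hmin⟩ := (wellFounded_lt (α := Closeds X)).has_min
    {W | IsPure W ∧ d ≤ Module.finrank k (Coh.HH X (sub Z (res L W)) 1)} ⟨⊤, isPure_top hdim, htop⟩
  haveI := H10Coh.finite_HH_proper k X _ (isCoh_sub Z (isCoh_res hL W)) 1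
  have hres : ∀ S : Closeds X, Subsingleton (Coh.HH X (res L S) 1) := fun S => subsingleton_of_forall_eq 0 fun y => by
    haveI := epi_proj hL S
    have hπ : cokernel.π (proj L S) = 0 := cokernel.π_of_epi _
    obtain ⟨z, rfl⟩ := ker_le_range_hhlin (k := k) hdim.le (proj L S)
      (show y ∈ LinearMap.ker _ by rw [LinearMap.mem_ker, hπ, H29RR.hhlin_zero])
    rw [Subsingleton.elim z 0, map_zero]
  have hres0 : ∀ {S : Closeds X} {y : X}, y ∉ S → Subsingleton ((res L S).presheaf.stalk y) := fun {S y} hy =>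
    not_nontrivial_iff_subsingleton.1 fun hn => hy ((nontrivial_stalk_res_iff hL S y).1 hn)
  have hxW : x ∈ W := by
    by_contra hxW
    haveI : IsIso (subι Z (res L W)) := isIso_of_bijective_stalks _ fun y => by
      by_cases hy : y ∈ Z.support
      · rw [← SetLike.mem_coe, hsupp, Set.mem_singleton_iff] at hy
        haveI := hres0 (hy ▸ hxW : y ∉ W)
        haveI : Subsingleton ((sub Z (res L W)).presheaf.stalk y) :=
          H25Par.subsingleton_stalk_of_mono (subι Z (res L W)) inferInstance
        exact ⟨fun a b _ => Subsingleton.elim _ _, fun b => ⟨0, Subsingleton.elim _ _⟩⟩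
      · exact bijective_stalk_subι Z (res L W) hy
    haveI := hres W
    haveI : Subsingleton (Coh.HH X (sub Z (res L W)) 1) := (hhIso (k := k) (asIso (subι Z (res L W))) 1).toEquiv.subsingleton
    rw [Module.finrank_zero_of_subsingleton] at hWd
    omega
  have hR : ∀ (S : Closeds X) (h : S ≤ W), IsPure S → S ≠ W →
      LinearMap.ker (Canon.HHlin k (subMap Z (resMap hL h)) 1) ≠ ⊥ := fun S hS hSp hne hk => by
    haveI := H10Coh.finite_HH_proper k X _ (isCoh_sub Z (isCoh_res hL S)) 1
    exact hmin S ⟨hSp, hWd.trans (LinearMap.finrank_le_finrank_of_injective (LinearMap.ker_eq_bot.1 hk))⟩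
      (lt_of_le_of_ne hS hne)
  have hdeg := deg_le_of_h0 (k := k) hdim.le Z hZ hL W (h0_sub_le_of_forall_ker hdim.le Z hZ hL hW hR) hWd
  have hZW : Z ⊔ idl W = Z := by
    rw [sup_eq_left, show Z = _ from ptIdeal_eq_vanishingIdeal hx]
    exact idl_antimono (Set.singleton_subset_iff.2 hxW)
  have hran : Set.range (idl W).subschemeι = (W : Set X) := by
    rw [Scheme.IdealSheafData.range_subschemeι, Scheme.IdealSheafData.coe_support_vanishingIdeal]
  haveI : Nonempty (idl W).subscheme := by
    obtain ⟨a, -⟩ : x ∈ Set.range (idl W).subschemeι := hran.ge hxW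
    exact ⟨a⟩
  have hconn : _root_.IsPreconnected (W : Set X) := by
    rw [isPreconnected_closed_iff]
    intro t t' ht ht' hcov hne hne'
    by_contra hemp
    obtain ⟨t, t', ht, ht', hcov, hxt, hne', hemp⟩ : ∃ t t' : Set X, IsClosed t ∧ IsClosed t' ∧
        (W : Set X) ⊆ t ∪ t' ∧ x ∈ t ∧ ((W : Set X) ∩ t').Nonempty ∧ ¬ ((W : Set X) ∩ (t ∩ t')).Nonempty := by
      rcases hcov hxW with hxt | hxt
      · exact ⟨t, t', ht, ht', hcov, hxt, hne', hemp⟩
      · exact ⟨t', t, ht', ht, by rwa [Set.union_comm], hxt, hne, by rwa [Set.inter_comm t' t]⟩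
    have hdisj : ∀ z ∈ W, z ∈ t → z ∉ t' := fun z hz hzt hzt' => hemp ⟨z, hz, hzt, hzt'⟩
    let W₁ : Closeds X := W ⊓ ⟨t, ht⟩
    let W₂ : Closeds X := W ⊓ ⟨t', ht'⟩
    have hcov' : W ≤ W₁ ⊔ W₂ := fun z hz => (hcov hz).imp (fun h => ⟨hz, h⟩) fun h => ⟨hz, h⟩
    have hW₁ : IsPure W₁ := fun z hz => by
      let s : Set X → Set X := fun r => {η | η ∈ W ∧ η ∈ r ∧ ¬ IsClosed ({η} : Set X)}
      have hz' : z ∈ closure (s t ∪ s t') := closure_mono (fun η hη => (hcov hη.1).imp (fun h => ⟨hη.1, h, hη.2⟩)
        fun h => ⟨hη.1, h, hη.2⟩) (hW hz.1)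
      rw [closure_union] at hz'
      refine hz'.elim (fun h => (closure_mono fun η (hη : η ∈ s t) => (⟨⟨hη.1, hη.2.1⟩, hη.2.2⟩ : η ∈ W₁ ∧ ¬ IsClosed ({η} : Set X))) h) fun h => absurd ?_ (hdisj z hz.1 hz.2)
      exact ht'.closure_subset (closure_mono (fun η hη => hη.2.1) h)
    have hW₁W : W₁ ≤ W := inf_le_left
    have hW₂W : W₂ ≤ W := inf_le_left
    have hne₁ : W₁ ≠ W := fun e => by
      obtain ⟨z, hz, hzt'⟩ := hne'
      exact hdisj z hz (e.ge hz).2 hzt'
    haveI := hres W₂
    refine hR W₁ hW₁W hW₁ hne₁ (LinearMap.ker_eq_bot.2 (injective_hhlin_subMap (k := k) hdim.le Z hL hW hW₁W hW₂W hcov'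
      (fun y h1 h2 => hdisj y h1.1 h1.2 h2.2) fun y hy hm => ?_))
    rw [← SetLike.mem_coe, hsupp, Set.mem_singleton_iff] at hm
    exact hdisj y hy.1 (hm ▸ hxt) hy.2
  haveI : ConnectedSpace (idl W).subscheme :=
    { toNonempty := inferInstance
      isPreconnected_univ := by
        rw [← (idl W).subschemeι.isEmbedding.isInducing.isPreconnected_image, Set.image_univ, hran]
        exact hconn }
  have hred := H17.isReduced_vanishingIdeal_subscheme W
  have hWdim := dim_subscheme hdim.le hW ⟨x, hxW⟩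
  obtain ⟨hpos, hχ⟩ := hfact (idl W) hred inferInstance hWdim
  have hh := h (idl W) hred inferInstance hWdim
  letI := overW k W
  haveI : (Coh.structureModule (idl W).subscheme).IsQuasicoherent := H10Coh.isQuasicoherent_unit
  rw [hZW, hQd, show Module.finrank k (Coh.HH X (ClSub.quotMod (idl W)) 0) = _ from
    H28Int.Push.finrank_HH_push k (idl W).subschemeι rfl _ 0] at hdeg
  change _ ≤ -2 * Curv2.euler k (idl W).subscheme _ + _ + _ at hdeg
  rw [hχ] at hdeg
  omega

end Groth.Agent.H29CurveDual.Subcurve
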