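import Groth.Agent.H29CurveDual.Subcurve.Degree
import Groth.Agent.H29RR.Pencil

/-!
# The number of sections on a subcurve on which every proper part is special

No genericity of the functional is used, so the ground field is arbitrary: the functionals are chosen one
component at a time and their images are separated by the subspaces coming from the ideals of the subcurves.
-/

set_option autoImplicit false
set_option linter.style.haveILetI false

universe u

open CategoryTheory CategoryTheory.Limits AlgebraicGeometry TopologicalSpace Opposite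
open Groth.Agent.H29RR Groth.Agent.H06Mod

namespace Groth.Agent.H29CurveDual.Subcurve

attribute [local instance 10000] H10Coh.hasSheafifyAb H10Coh.hasWeakSheafifyAb H10Coh.hasExtAb H10Coh.enoughInjAb

variable {X : Scheme.{u}}

theorem mem_of_mem_closure_nonclosed [IsNoetherian X] (hdim : topologicalKrullDim X ≤ 1) {T : Set X}
    (hT : ∀ t ∈ T, ¬ IsClosed ({t} : Set X)) {η : X} (hη : ¬ IsClosed ({η} : Set X)) (hm : η ∈ closure T) :
    η ∈ T := by
  rw [← Set.biUnion_of_singleton T, ((finite_nonclosed hdim).subset hT).closure_biUnion] at hm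
  obtain ⟨t, ht, hηt⟩ := Set.mem_iUnion₂.1 hm
  have h1 : t ⤳ η := specializes_iff_mem_closure.2 hηt
  rwa [← H8Props.mem_genericPoints_iff.1 (mem_genericPoints_of_not_isClosed hdim hη) t h1]

theorem homOfGlobal_comp' {M N : X.Modules} (s : Γ(M, ⊤)) (f : M ⟶ N) :
    H11Tilde.homOfGlobal M s ≫ f = H11Tilde.homOfGlobal N (f.app ⊤ s) := by
  refine Scheme.Modules.hom_ext _ _ fun V => ?_
  ext r
  show f.app V ((H11Tilde.homOfGlobal M s).app V r) = (H11Tilde.homOfGlobal N (f.app ⊤ s)).app V r
  rw [H11Tilde.homOfGlobal_app, H11Tilde.homOfGlobal_app, Scheme.Modules.Hom.app_smul, H11Tilde.app_map_apply]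

theorem stalkLin_zero_apply {A B : X.Modules} (x : X) (a : A.presheaf.stalk x) :
    stalkLin (0 : A ⟶ B) x a = 0 := by
  obtain ⟨U, hU, a, rfl⟩ := A.presheaf.exists_germ_eq a
  rw [stalkLin_germ]
  exact map_zero _

theorem IsPure.le {S S' : Closeds X} (hS' : IsPure S')
    (h : ∀ η ∈ S', ¬ IsClosed ({η} : Set X) → η ∈ S) : S' ≤ S :=
  Set.Subset.trans hS' (closure_minimal (fun η hη => h η hη.1 hη.2) S.isClosed)

theorem IsPure.sup {S S' : Closeds X} (hS : IsPure S) (hS' : IsPure S') : IsPure (S ⊔ S') := by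
  rintro z (hz | hz)
  · exact (closure_mono fun η (hη : η ∈ S ∧ ¬ IsClosed ({η} : Set X)) =>
      show η ∈ S ⊔ S' ∧ ¬ IsClosed ({η} : Set X) from ⟨Or.inl hη.1, hη.2⟩) (hS hz)
  · exact (closure_mono fun η (hη : η ∈ S' ∧ ¬ IsClosed ({η} : Set X)) =>
      show η ∈ S ⊔ S' ∧ ¬ IsClosed ({η} : Set X) from ⟨Or.inr hη.1, hη.2⟩) (hS' hz)

theorem isPure_bot : IsPure (⊥ : Closeds X) := fun _ h => h.elim

section ResMap

variable {L : X.Modules} (hL : PicF.IsInvertible L)

/-- The restriction map between two restrictions. -/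
noncomputable def resMap {W W' : Closeds X} (h : W' ≤ W) : res L W ⟶ res L W' := (exists_resMap hL h).choose

theorem resMap_fac {W W' : Closeds X} (h : W' ≤ W) : proj L W ≫ resMap hL h = proj L W' :=
  (exists_resMap hL h).choose_spec.1

theorem epi_resMap {W W' : Closeds X} (h : W' ≤ W) : Epi (resMap hL h) :=
  (exists_resMap hL h).choose_spec.2

theorem resMap_comp {W W' W'' : Closeds X} (h : W' ≤ W) (h' : W'' ≤ W') :
    resMap hL h ≫ resMap hL h' = resMap hL (h'.trans h) := by
  haveI := epi_proj hL W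
  rw [← cancel_epi (proj L W), ← Category.assoc, resMap_fac, resMap_fac, resMap_fac]

theorem resMap_refl (W : Closeds X) : resMap hL (le_refl W) = 𝟙 _ := by
  haveI := epi_proj hL W
  rw [← cancel_epi (proj L W), resMap_fac, Category.comp_id]

end ResMap

variable {k : Type u} [Field k] [X.Over (Spec (CommRingCat.of k))] [IsProper (X ↘ Spec (CommRingCat.of k))]
  [IsReduced X] (hdim : topologicalKrullDim X ≤ 1) (Z : X.IdealSheafData)
  (hZ : ∀ η : X, ¬ IsClosed ({η} : Set X) → η ∉ Z.support) {L : X.Modules} (hL : PicF.IsInvertible L)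

include hdim hZ hL in
/-- If first cohomology of the twisted ideal drops on every proper pure part, the sections inject into the dual
of the first cohomology of the functions. -/
theorem h0_sub_le_of_forall_ker {W : Closeds X} (hW : IsPure W)
    (hR : ∀ (S : Closeds X) (h : S ≤ W), IsPure S → S ≠ W →
      LinearMap.ker (Canon.HHlin k (subMap Z (resMap hL h)) 1) ≠ ⊥) :
    Module.finrank k (Coh.HH X (sub Z (res L W)) 0) ≤
      Module.finrank k (Coh.HH X (ClSub.quotMod (idl W)) 1) := by
  classical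
  haveI := isNoetherian_of_proper (k := k) (X := X)
  let G := sub Z (res L W)
  let O := Coh.structureModule X
  have hG : Coh.IsCoh G := isCoh_sub Z (isCoh_res hL W)
  haveI := H10Coh.finite_HH_proper k X G hG 0
  haveI := H10Coh.finite_HH_proper k X G hG 1
  haveI := H10Coh.finite_HH_proper k X O (H10Coh.isCoh_structureModule' X) 1
  haveI := H10Coh.finite_HH_proper k X _ (LeadDev.isCoh_push_structure (idl W).subschemeι) 1
  let q := Canon.HHlin k (ClSub.toSubscheme (idl W)) 1
  let P : Closeds X → Submodule k (Coh.HH X O 1) := fun S =>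
    LinearMap.range (Canon.HHlin k (ClSub.idealModι (idl S)) 1) ⊔ LinearMap.ker q
  let U : ∀ {S : Closeds X}, S ≤ W → Submodule k (Coh.HH X G 0) := fun h =>
    LinearMap.ker (Canon.HHlin k (subMap Z (resMap hL h)) 0)
  let R : ∀ {S : Closeds X}, S ≤ W → Submodule k (Coh.HH X G 1) := fun h =>
    LinearMap.ker (Canon.HHlin k (subMap Z (resMap hL h)) 1)
  haveI hfO : IsNoetherian k (Coh.HH X O 1) := IsNoetherian.iff_fg.2 inferInstance
  haveI : ∀ A : Submodule k (Coh.HH X O 1), Module.Finite k A := fun A => Module.Finite.of_fg (IsNoetherian.noetherian A)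
  let φ : Coh.HH X G 0 → (O ⟶ G) := fun v => H11Tilde.homOfGlobal G (sec G v)
  have hU : ∀ {S : Closeds X} (h : S ≤ W) (v : Coh.HH X G 0),
      v ∈ U h ↔ φ v ≫ subMap Z (resMap hL h) = 0 := by
    intro S h v
    rw [LinearMap.mem_ker, homOfGlobal_comp', ← sec_natural (k := k) (subMap Z (resMap hL h)) v]
    refine ⟨fun e => ?_, fun e => by_contra fun hne => mulH_ne_zero_arg hne e⟩
    rw [e, map_zero]
    refine Scheme.Modules.hom_ext _ _ fun V => ?_
    ext r
    show (H11Tilde.homOfGlobal (sub Z (res L S)) 0).app V r = 0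
    rw [H11Tilde.homOfGlobal_app, map_zero, smul_zero]
  have hkill : ∀ (B : Closeds X) (u : O ⟶ res L B), ClSub.idealModι (idl B) ≫ u = 0 :=
    fun B u => idealModι_comp_eq_zero (idl B) hL u
  have hfac : ∀ {A B : Closeds X}, B ≤ A → ∃ j : ClSub.idealMod (idl A) ⟶ ClSub.idealMod (idl B),
      j ≫ ClSub.idealModι (idl B) = ClSub.idealModι (idl A) := fun h =>
    ⟨kernel.lift _ _ (H28Vert.le_of_ideal (idl_antimono h)), kernel.lift_ι _ _ _⟩
  suffices key : ∀ n, ∀ (S : Closeds X) (h : S ≤ W), IsPure S →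
      ((({η | ¬ IsClosed ({η} : Set X)} : Set X) ∩ W) \ S).ncard = n →
      Module.finrank k (U h) + Module.finrank k (LinearMap.ker q) ≤ Module.finrank k (P S) by
    have h1 := key _ ⊥ bot_le isPure_bot rfl
    have h2 : U (bot_le : ⊥ ≤ W) = ⊤ := eq_top_iff.2 fun v _ => (hU bot_le v).2 (by
      have h0 : resMap hL (bot_le : ⊥ ≤ W) = 0 := hom_res_eq_zero hL isPure_bot _ fun η hη => hη.elim
      rw [h0, subMap_zero, comp_zero])
    rw [h2, finrank_top] at h1
    have h3 : Module.finrank k (P ⊥) ≤ Module.finrank k (Coh.HH X O 1) := Submodule.finrank_le (P ⊥)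
    have h4 : Module.finrank k (LinearMap.range q) + Module.finrank k (LinearMap.ker q) =
        Module.finrank k (Coh.HH X O 1) := LinearMap.finrank_range_add_finrank_ker q
    have h5 : Module.finrank k (LinearMap.range q) ≤ Module.finrank k (Coh.HH X (ClSub.quotMod (idl W)) 1) :=
      Submodule.finrank_le (LinearMap.range q)
    change Module.finrank k (Coh.HH X (sub Z (res L W)) 0) + Module.finrank k (LinearMap.ker q) ≤ _ at h1
    omega
  intro n
  induction n using Nat.strong_induction_on with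
  | _ n ih =>
  intro S hSW hS hn
  by_cases hSe : S = W
  · subst hSe
    have h1 : U hSW = ⊥ := LinearMap.ker_eq_bot.2 fun a b hab => by
      rwa [resMap_refl hL S, subMap_id, H29RR.hhlin_id, H29RR.hhlin_id] at hab
    rw [h1, finrank_bot, zero_add]
    exact Submodule.finrank_mono le_sup_right
  let good : Set (Closeds X) := {B | IsPure B ∧ ∃ hB : B ≤ W, ∃ t : Module.Dual k (Coh.HH X G 1),
    (∀ y ∈ R hB, t y = 0) ∧ ∃ y ∈ R hSW, t y ≠ 0}
  have hWgood : W ∈ good := by
    obtain ⟨y, hy, hy0⟩ := Submodule.exists_mem_ne_zero_of_ne_bot (hR S hSW hS hSe)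
    haveI : Module.Projective k (Coh.HH X G 1) := Module.Projective.of_free
    obtain ⟨t, ht⟩ := Module.Projective.exists_dual_ne_zero k hy0
    refine ⟨hW, le_rfl, t, fun z hz => ?_, y, hy, ht⟩
    have h1 : Canon.HHlin k (subMap Z (resMap hL (le_refl W))) 1 z = 0 := hz
    rw [resMap_refl hL W, subMap_id, H29RR.hhlin_id] at h1
    rw [h1, map_zero]
  obtain ⟨B, ⟨hB, hBW, t, htB, y₀, hy₀, hty₀⟩, hmin⟩ :=
    (wellFounded_lt (α := Closeds X)).has_min good ⟨W, hWgood⟩
  let S' := S ⊔ B
  have hS'W : S' ≤ W := sup_le hSW hBW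
  have hmono : ∀ {A A' : Closeds X} (hA : A ≤ W) (hA' : A' ≤ A), R hA ≤ R (hA'.trans hA) := by
    intro A A' hA hA' y hy
    show Canon.HHlin k (subMap Z (resMap hL (hA'.trans hA))) 1 y = 0
    rw [← resMap_comp hL hA hA', subMap_comp, hhlin_comp, show Canon.HHlin k (subMap Z (resMap hL hA)) 1 y = 0
      from hy, map_zero]
  have hBS : ¬ B ≤ S := fun hle => hty₀ (htB y₀ (hmono hSW hle hy₀))
  obtain ⟨η₀, hη₀B, hη₀, hη₀S⟩ : ∃ η ∈ B, ¬ IsClosed ({η} : Set X) ∧ η ∉ S := by
    by_contra hc
    push Not at hc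
    exact hBS (hB.le fun η hη hne => hc η hη hne)
  have hlt : ((({η | ¬ IsClosed ({η} : Set X)} : Set X) ∩ W) \ S').ncard < n := by
    rw [← hn]
    refine Set.ncard_lt_ncard ?_ (((finite_nonclosed hdim).inter_of_left _).sdiff)
    refine ⟨Set.sdiff_subset_sdiff_right fun z hz => Or.inl hz, fun hsub => ?_⟩
    exact (hsub ⟨⟨hη₀, hBW hη₀B⟩, hη₀S⟩).2 (Or.inr hη₀B)
  have hIH := ih _ hlt S' hS'W (hS.sup hB) rfl
  have hPle : P S' ≤ P S := by
    obtain ⟨j, hj⟩ := hfac (le_sup_left : S ≤ S')
    refine sup_le_sup_right ?_ _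
    rintro _ ⟨z, rfl⟩
    exact ⟨Canon.HHlin k j 1 z, by rw [← hhlin_comp, hj]⟩
  -- the pairing with the chosen functional
  let Φ : U hSW →ₗ[k] Module.Dual k (P S) :=
    { toFun := fun v => (t ∘ₗ mulH (k := k) G 1 v.1) ∘ₗ (P S).subtype
      map_add' := fun v w => by
        rw [Submodule.coe_add, map_add, LinearMap.comp_add, LinearMap.add_comp]
      map_smul' := fun c v => by
        rw [Submodule.coe_smul, map_smul, LinearMap.comp_smul, LinearMap.smul_comp]; rfl }
  have hann : LinearMap.range Φ ≤ ((P S').comap (P S).subtype).dualAnnihilator := by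
    rintro _ ⟨⟨v, hv⟩, rfl⟩
    rw [Submodule.mem_dualAnnihilator]
    rintro ⟨z, _⟩ hz
    show t (Canon.HHlin k (φ v) 1 z) = 0
    obtain ⟨_, ⟨w, rfl⟩, b, hb, rfl⟩ := Submodule.mem_sup.1 (show z ∈ P S' from hz)
    obtain ⟨s', hs'⟩ := exists_desc (idl W) (φ v) (sub_kills Z hL W _)
    have hb0 : Canon.HHlin k (φ v) 1 b = 0 := by
      rw [← hs', hhlin_comp, show Canon.HHlin k (ClSub.toSubscheme (idl W)) 1 b = 0 from hb, map_zero]
    rw [map_add, hb0, add_zero]
    refine htB _ ?_
    show Canon.HHlin k (subMap Z (resMap hL hBW)) 1 _ = 0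
    have h0 : ClSub.idealModι (idl S') ≫ φ v ≫ subMap Z (resMap hL hBW) = 0 := by
      obtain ⟨j, hj⟩ := hfac (le_sup_right : B ≤ S')
      rw [← cancel_mono (subι Z (res L B)), zero_comp, ← hj, Category.assoc, Category.assoc, hkill, comp_zero]
    rw [← hhlin_comp, ← hhlin_comp, h0, H29RR.hhlin_zero]
  have hker : (LinearMap.ker Φ).map (U hSW).subtype ≤ U hS'W := by
    rintro _ ⟨⟨v, hv⟩, hΦ, rfl⟩
    rw [hU]
    let s : ClSub.idealMod (idl S) ⟶ G := ClSub.idealModι (idl S) ≫ φ v
    have hts : ∀ y ∈ LinearMap.range (Canon.HHlin k s 1), t y = 0 := by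
      rintro _ ⟨z, rfl⟩
      rw [hhlin_comp]
      exact LinearMap.congr_fun hΦ ⟨Canon.HHlin k (ClSub.idealModι (idl S)) 1 z,
        Submodule.mem_sup_left ⟨z, rfl⟩⟩
    have hcQ : Coh.IsQCoh (ClSub.idealMod (idl S)) :=
      (H10Coh.isCoh_kernel _ (H10Coh.isCoh_structureModule' X)
        (LeadDev.isCoh_push_structure (idl S).subschemeι).1).1
    -- the part of `B` where `v` vanishes
    have hBzero : ∀ η ∈ S', ¬ IsClosed ({η} : Set X) → stalkLin (φ v ≫ subι Z (res L W)) η = 0 := by
      intro η hη' hη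
      by_cases hηS : η ∈ S
      · refine LinearMap.ext fun a => ?_
        have hb := bijective_stalk_resMap hdim hL (resMap hL hSW) (resMap_fac hL hSW) hη hηS
        have h1 : (φ v ≫ subι Z (res L W)) ≫ resMap hL hSW = 0 := by
          rw [Category.assoc, ← subMap_ι, ← Category.assoc, (hU hSW v).1 hv, zero_comp]
        refine hb.1 ?_
        show stalkLin (resMap hL hSW) η _ = stalkLin (resMap hL hSW) η _
        rw [← stalkLin_comp, h1, LinearMap.zero_apply, map_zero]
        exact stalkLin_zero_apply _ a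
      have hηB : η ∈ B := hη'.resolve_left hηS
      have hb' : ∀ a : O.presheaf.stalk η, ∃ b, stalkLin (ClSub.idealModι (idl S)) η b = a := by
        haveI := H10Coh.epi_toSubscheme (idl S)
        refine (bijective_stalk_kernelι (ClSub.toSubscheme (idl S)) ?_).2
        refine not_not.1 fun h => hηS ?_
        rw [← SetLike.mem_coe, ← Scheme.IdealSheafData.coe_support_vanishingIdeal S]
        exact (mem_support_quot (idl S)).le h
      by_cases hs0 : s = 0
      · refine LinearMap.ext fun a => ?_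
        obtain ⟨b, hb⟩ := hb' a
        rw [← hb, ← stalkLin_comp, ← Category.assoc, show ClSub.idealModι (idl S) ≫ φ v = 0 from hs0, zero_comp]
        exact stalkLin_zero_apply _ b
      obtain ⟨B', hB'W, hB', hz, -, hrg⟩ := exists_lt_ker_le_range (k := k) Z hdim hL hZ hW hcQ s hs0
      have htB' : ∀ y ∈ R hB'W.le, t y = 0 := fun y hy => hts y (hrg _ (resMap_fac hL hB'W.le) hy)
      by_cases hηB' : η ∈ B'
      · refine LinearMap.ext fun a => ?_
        obtain ⟨b, hb⟩ := hb' a
        rw [← hb, ← stalkLin_comp, ← Category.assoc, hz η hηB' hη]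
        rfl
      exfalso
      -- the kernel of the map to `B'`, seen on `B`
      let K := kernel (subMap Z (resMap hL hB'W.le))
      let c : K ⟶ sub Z (res L B) := kernel.ι _ ≫ subMap Z (resMap hL hBW)
      have hc : c ≠ 0 := by
        intro hc0
        have hsub : Subsingleton ((sub Z (res L B')).presheaf.stalk η) :=
          H25Par.subsingleton_stalk_of_mono (subι Z (res L B'))
            (not_nontrivial_iff_subsingleton.1 fun h => hηB' ((nontrivial_stalk_res_iff hL B' η).1 h))
        haveI : Epi (subMap Z (resMap hL hB'W.le)) := by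
          haveI := epi_resMap hL hB'W.le
          exact epi_subMap Z _
        have hK := bijective_stalk_kernelι (subMap Z (resMap hL hB'W.le)) hsub
        haveI := (nontrivial_stalk_res_iff hL B η).2 hηB
        obtain ⟨b, hb⟩ := exists_ne (0 : (res L B).presheaf.stalk η)
        obtain ⟨a, rfl⟩ := (bijective_stalk_resMap hdim hL (resMap hL hBW) (resMap_fac hL hBW) hη hηB).2 b
        obtain ⟨a, rfl⟩ := (bijective_stalk_subι Z (res L W) (hZ η hη)).2 a
        obtain ⟨a, rfl⟩ := hK.2 a
        refine hb ?_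
        show stalkLin (resMap hL hBW) η _ = 0
        rw [← stalkLin_comp, ← subMap_ι, stalkLin_comp]
        show stalkLin (subι Z (res L B)) η (stalkLin (subMap Z (resMap hL hBW)) η _) = 0
        rw [← stalkLin_comp (kernel.ι _), show kernel.ι _ ≫ subMap Z (resMap hL hBW) = (0 : K ⟶ sub Z (res L B)) from hc0,
          stalkLin_zero_apply, map_zero]
      have hKq : Coh.IsQCoh K := (H10Coh.isCoh_kernel _ hG (isCoh_sub Z (isCoh_res hL B')).1).1
      obtain ⟨B₁, hB₁B, hB₁, -, -, hrg₁⟩ := exists_lt_ker_le_range (k := k) Z hdim hL hZ hB hKq c hc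
      refine hmin B₁ ⟨hB₁, hB₁B.le.trans hBW, t, fun y hy => ?_, y₀, hy₀, hty₀⟩ hB₁B
      have hy' : Canon.HHlin k (subMap Z (resMap hL hBW)) 1 y ∈
          LinearMap.ker (Canon.HHlin k (subMap Z (resMap hL hB₁B.le)) 1) := by
        rw [LinearMap.mem_ker, ← hhlin_comp, ← subMap_comp, resMap_comp]
        exact hy
      obtain ⟨a, ha⟩ := hrg₁ _ (resMap_fac hL hB₁B.le) hy'
      let a' := Canon.HHlin k (kernel.ι (subMap Z (resMap hL hB'W.le))) 1 a
      have ha' : t a' = 0 := htB' _ (by
        show Canon.HHlin k (subMap Z (resMap hL hB'W.le)) 1 a' = 0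
        rw [← hhlin_comp, kernel.condition, H29RR.hhlin_zero])
      have hya : t (y - a') = 0 := htB _ (by
        show Canon.HHlin k (subMap Z (resMap hL hBW)) 1 (y - a') = 0
        rw [map_sub, sub_eq_zero, ← hhlin_comp]
        exact ha.symm)
      rw [map_sub, ha', sub_zero] at hya
      exact hya
    rw [← cancel_mono (subι Z (res L S')), zero_comp, Category.assoc, subMap_ι, ← Category.assoc]
    refine hom_res_eq_zero hL (hS.sup hB) _ fun η hη' hη => LinearMap.ext fun a => ?_
    refine (stalkLin_comp (φ v ≫ subι Z (res L W)) (resMap hL hS'W) η a).trans ?_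
    rw [hBzero η hη' hη]
    exact map_zero _
  have h1 := LinearMap.finrank_range_add_finrank_ker Φ
  have h2 := Submodule.finrank_mono hker
  rw [Submodule.finrank_map_subtype_eq] at h2
  have h3 := Submodule.finrank_mono hann
  have h4 := Subspace.finrank_add_finrank_dualAnnihilator_eq ((P S').comap (P S).subtype)
  have h5 := (Submodule.comapSubtypeEquivOfLe hPle).finrank_eq
  omega

end Groth.Agent.H29CurveDual.Subcurve
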