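import Groth.Agent.H29CurveDual.Subcurve.Top
import Groth.Agent.H29RR.Clifford
import Groth.Agent.H28Int.Push
import Groth.Agent.H29Serre.Duality

/-!
# A minimal special subcurve
-/

set_option autoImplicit false
set_option linter.style.haveILetI false

universe u

open CategoryTheory CategoryTheory.Limits AlgebraicGeometry TopologicalSpace Opposite
open Groth.Agent.H29RR Groth.Agent.H06Mod

namespace Groth.Agent.H29CurveDual.Subcurve

attribute [local instance 10000] H10Coh.hasSheafifyAb H10Coh.hasWeakSheafifyAb H10Coh.hasExtAb H10Coh.enoughInjAb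
attribute [local instance] homModule

variable {k : Type u} [Field k] {X : Scheme.{u}} [X.Over (Spec (CommRingCat.of k))]
  [IsProper (X ↘ Spec (CommRingCat.of k))]

theorem subMap_add (Z : X.IdealSheafData) {E F : X.Modules} (φ ψ : E ⟶ F) :
    subMap Z (φ + ψ) = subMap Z φ + subMap Z ψ := by
  rw [← cancel_mono (subι Z F), Preadditive.add_comp, subMap_ι, subMap_ι, subMap_ι, Preadditive.comp_add]

theorem subMap_scal (Z : X.IdealSheafData) (F : X.Modules) (r : Γ(X, ⊤)) :
    subMap Z (scal F r) = scal (sub Z F) r := by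
  rw [← cancel_mono (subι Z F), subMap_ι, scal_natural]

theorem subMap_zero (Z : X.IdealSheafData) (E F : X.Modules) : subMap Z (0 : E ⟶ F) = 0 := by
  rw [← cancel_mono (subι Z F), subMap_ι, comp_zero, zero_comp]

variable [IsReduced X] (hdim : topologicalKrullDim X ≤ 1) (Z : X.IdealSheafData)
  (hZ : ∀ η : X, ¬ IsClosed ({η} : Set X) → η ∉ Z.support) {L : X.Modules} (hL : PicF.IsInvertible L)

/-- The hypothesis of minimality: every nonzero morphism is surjective in first cohomology. -/
def IsMinimal (k : Type u) [Field k] [X.Over (Spec (CommRingCat.of k))] (Z : X.IdealSheafData) (L : X.Modules)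
    (W : Closeds X) : Prop :=
  ∀ {F : X.Modules}, Coh.IsQCoh F → ∀ s : F ⟶ sub Z (res L W), s ≠ 0 →
    Function.Surjective (Canon.HHlin k s 1)

include hdim hZ hL in
theorem exists_minimal {W₀ : Closeds X} (hW₀ : IsPure W₀) (h : Nontrivial (Coh.HH X (sub Z (res L W₀)) 1)) :
    ∃ W : Closeds X, IsPure W ∧ Nontrivial (Coh.HH X (sub Z (res L W)) 1) ∧ IsMinimal k Z L W := by
  haveI := isNoetherian_of_proper (k := k) (X := X)
  induction W₀ using WellFoundedLT.induction with
  | ind W ih =>
    by_cases hex : ∃ W' < W, IsPure W' ∧ Nontrivial (Coh.HH X (sub Z (res L W')) 1)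
    · obtain ⟨W', hlt, hp, hn⟩ := hex
      exact ih W' hlt hp hn
    refine ⟨W, hW₀, h, fun {F} hF s hs => ?_⟩
    obtain ⟨W', hlt, hp, -, -, hker⟩ := exists_lt_ker_le_range (k := k) Z hdim hL hZ hW₀ hF s hs
    obtain ⟨r, hr, -⟩ := exists_resMap hL hlt.le
    haveI : Subsingleton (Coh.HH X (sub Z (res L W')) 1) :=
      not_nontrivial_iff_subsingleton.1 fun hn => hex ⟨W', hlt, hp, hn⟩
    intro y
    exact hker r hr (show y ∈ LinearMap.ker (Canon.HHlin k (subMap Z r) 1) from Subsingleton.elim _ _)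

include hdim hL in
/-- The rank bound from a surjectivity hypothesis along one functional. -/
theorem h0_sub_le (W : Closeds X) (t : Module.Dual k (Coh.HH X (sub Z (res L W)) 1))
    (ht : ∀ v : Coh.HH X (sub Z (res L W)) 0, v ≠ 0 → t ∘ₗ mulH (k := k) (sub Z (res L W)) 1 v ≠ 0) :
    Module.finrank k (Coh.HH X (sub Z (res L W)) 0) ≤
      Module.finrank k (Coh.HH X (ClSub.quotMod (idl W)) 1) := by
  haveI := isNoetherian_of_proper (k := k) (X := X)
  haveI := H10Coh.finite_HH_proper k X _ (LeadDev.isCoh_push_structure (idl W).subschemeι) 1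
  let q := Canon.HHlin k (ClSub.toSubscheme (idl W)) 1
  haveI : Module.Finite k (LinearMap.range q.dualMap) :=
    Module.Finite.of_surjective q.dualMap.rangeRestrict q.dualMap.surjective_rangeRestrict
  let G := sub Z (res L W)
  let B : Coh.HH X G 0 →ₗ[k] Module.Dual k (Coh.HH X (Coh.structureModule X) 1) :=
    { toFun := fun v => t ∘ₗ mulH (k := k) G 1 v
      map_add' := fun v v' => by rw [map_add, LinearMap.comp_add]
      map_smul' := fun c v => by rw [map_smul, LinearMap.comp_smul]; rfl }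
  have hinj : Function.Injective B := by
    rw [injective_iff_map_eq_zero]
    intro v hv
    by_contra hne
    exact ht v hne hv
  have hrange : LinearMap.range B ≤ LinearMap.range q.dualMap := by
    rintro _ ⟨v, rfl⟩
    obtain ⟨s', hs'⟩ := exists_desc (idl W) (H11Tilde.homOfGlobal G (sec G v)) (sub_kills Z hL W _)
    refine ⟨t ∘ₗ Canon.HHlin k s' 1, LinearMap.ext fun x => ?_⟩
    show t (Canon.HHlin k s' 1 (q x)) = t (Canon.HHlin k (H11Tilde.homOfGlobal G (sec G v)) 1 x)
    rw [← hs', H25Par.hhlin_comp]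
    rfl
  rw [← LinearMap.finrank_range_of_inj hinj]
  exact (Submodule.finrank_mono hrange).trans ((LinearMap.finrank_range_le _).trans_eq Subspace.dual_finrank_eq)

theorem mulH_ne_zero_arg {G : X.Modules} {v : Coh.HH X G 0} (hv : v ≠ 0) :
    H11Tilde.homOfGlobal G (sec G v) ≠ 0 := fun h => hv ((sec G).injective (by
  have h1 := congrArg (fun φ : Coh.structureModule X ⟶ G => φ.app ⊤ (1 : Γ(X, ⊤))) h
  simp only [H11Tilde.homOfGlobal_app, one_smul] at h1
  rw [map_zero]
  simpa using h1))

include hdim hL in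
theorem h0_sub_le_of_minimal {W : Closeds X} (hmin : IsMinimal k Z L W)
    (hn : Nontrivial (Coh.HH X (sub Z (res L W)) 1)) :
    Module.finrank k (Coh.HH X (sub Z (res L W)) 0) ≤
      Module.finrank k (Coh.HH X (ClSub.quotMod (idl W)) 1) := by
  haveI := isNoetherian_of_proper (k := k) (X := X)
  haveI := H10Coh.finite_HH_proper k X _ (isCoh_sub Z (isCoh_res hL W)) 1
  obtain ⟨y, hy⟩ := exists_ne (0 : Coh.HH X (sub Z (res L W)) 1)
  haveI : Module.Free k (Coh.HH X (sub Z (res L W)) 1) := Module.Free.of_divisionRing k _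
  haveI : Module.Projective k (Coh.HH X (sub Z (res L W)) 1) := Module.Projective.of_free
  obtain ⟨t, ht⟩ := Module.Projective.exists_dual_ne_zero k hy
  refine h0_sub_le hdim Z hL W t fun v hv h => ?_
  obtain ⟨x, hx⟩ := hmin (H10Coh.isCoh_structureModule' X).1 _ (mulH_ne_zero_arg hv) y
  exact ht (by rw [← hx]; exact LinearMap.congr_fun h x)

/-- The endomorphism of a restriction induced by a morphism of quotients. -/
noncomputable def endo (L : X.Modules) {A B : Closeds X}
    (φ : ClSub.quotMod (idl A) ⟶ ClSub.quotMod (idl B)) : res L A ⟶ res L B :=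
  LimSh.tensorModMap φ L

omit [IsReduced X] in
theorem endo_comp {A B C : Closeds X} (φ : ClSub.quotMod (idl A) ⟶ ClSub.quotMod (idl B))
    (ψ : ClSub.quotMod (idl B) ⟶ ClSub.quotMod (idl C)) : endo L (φ ≫ ψ) = endo L φ ≫ endo L ψ :=
  LimSh.tensorModMap_comp φ ψ L

omit [IsReduced X] in
theorem endo_add {A B : Closeds X} (φ ψ : ClSub.quotMod (idl A) ⟶ ClSub.quotMod (idl B)) :
    endo L (φ + ψ) = endo L φ + endo L ψ :=
  (twist L).map_add

omit [IsReduced X] in
theorem endo_zero (A B : Closeds X) : endo L (0 : ClSub.quotMod (idl A) ⟶ ClSub.quotMod (idl B)) = 0 :=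
  (twist L).map_zero _ _

omit [IsReduced X] in
theorem eq_zero_of_endo (hL : PicF.IsInvertible L) {A B : Closeds X}
    {φ : ClSub.quotMod (idl A) ⟶ ClSub.quotMod (idl B)} (h : endo L φ = 0) : φ = 0 :=
  twist_map_eq_zero hL h

omit [IsReduced X] in
theorem endo_scal (hL : PicF.IsInvertible L) {A B : Closeds X}
    (φ : ClSub.quotMod (idl A) ⟶ ClSub.quotMod (idl B)) (r : Γ(X, ⊤)) :
    endo L (φ ≫ scal (ClSub.quotMod (idl B)) r) = endo L φ ≫ scal (res L B) r := by
  have h := twist_scal hL (ClSub.quotMod (idl B)) r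
  exact (endo_comp φ _).trans (congrArg (endo L φ ≫ ·) h)

include k hdim hZ hL in
theorem subMap_endo_ne_zero {W : Closeds X} (hW : IsPure W) {φ : ClSub.quotMod (idl W) ⟶ ClSub.quotMod (idl W)}
    (hφ : φ ≠ 0) : subMap Z (endo L φ) ≠ 0 := by
  haveI := isNoetherian_of_proper (k := k) (X := X)
  intro h
  refine hφ (eq_zero_of_endo hL (hom_res_eq_zero hL hW (endo L φ) fun η _ hη => LinearMap.ext fun a => ?_))
  obtain ⟨b, rfl⟩ := (bijective_stalk_subι Z (res L W) (hZ η hη)).2 a
  refine (stalkLin_comp (subι Z (res L W)) (endo L φ) η b).symm.trans ?_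
  rw [← subMap_ι, h, zero_comp]
  have hz : subι Z (res L W) ≫ (0 : res L W ⟶ res L W) = 0 := comp_zero
  rw [← hz, stalkLin_comp]
  show stalkLin (0 : res L W ⟶ res L W) η _ = 0
  obtain ⟨U, hU, c, hc⟩ := (res L W).presheaf.exists_germ_eq (stalkLin (subι Z (res L W)) η b)
  rw [← hc, stalkLin_germ]
  exact map_zero _

include hdim hZ hL in
theorem bijective_endo {W : Closeds X} (hW : IsPure W) (hmin : IsMinimal k Z L W)
    {φ : ClSub.quotMod (idl W) ⟶ ClSub.quotMod (idl W)} (hφ : φ ≠ 0) :
    Function.Bijective (Canon.HHlin k (subMap Z (endo L φ)) 1) := by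
  haveI := isNoetherian_of_proper (k := k) (X := X)
  haveI := H10Coh.finite_HH_proper k X _ (isCoh_sub Z (isCoh_res hL W)) 1
  have h := hmin (isCoh_sub Z (isCoh_res hL W)).1 _ (subMap_endo_ne_zero (k := k) hdim Z hZ hL hW hφ)
  exact ⟨LinearMap.injective_iff_surjective.2 h, h⟩

include hdim hZ hL in
/-- The functions on a minimal subcurve inject into its first cohomology. -/
theorem h0_quot_le_of_minimal {W : Closeds X} (hW : IsPure W) (hmin : IsMinimal k Z L W)
    (hn : Nontrivial (Coh.HH X (sub Z (res L W)) 1)) :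
    Module.finrank k (Coh.HH X (ClSub.quotMod (idl W)) 0) ≤
      Module.finrank k (Coh.HH X (sub Z (res L W)) 1) := by
  haveI := isNoetherian_of_proper (k := k) (X := X)
  haveI := H10Coh.finite_HH_proper k X _ (isCoh_sub Z (isCoh_res hL W)) 1
  obtain ⟨y, hy⟩ := exists_ne (0 : Coh.HH X (sub Z (res L W)) 1)
  let Q := ClSub.quotMod (idl W)
  rw [← finrank_hom_structure k Q]
  haveI := H10Coh.epi_toSubscheme (idl W)
  have hd : ∀ w : Coh.structureModule X ⟶ Q, ∃ φ : Q ⟶ Q, ClSub.toSubscheme (idl W) ≫ φ = w := fun w => by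
    refine exists_desc (idl W) w ?_
    have h0 := idealModι_comp_eq_zero (idl W) (H11Ample.isInvertible_structureModule (X := X))
      (w ≫ (H10Coh.Tw.rightUnitIso Q).inv)
    rw [← cancel_mono (H10Coh.Tw.rightUnitIso Q).inv, zero_comp, Category.assoc]
    exact h0
  choose d hd using hd
  have hd_add : ∀ a b, d (a + b) = d a + d b := fun a b => by
    rw [← cancel_epi (ClSub.toSubscheme (idl W)), Preadditive.comp_add, hd, hd, hd]
  have hd_smul : ∀ (c : k) a, d (c • a) = c • d a := fun c a => by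
    rw [← cancel_epi (ClSub.toSubscheme (idl W)), smul_def, smul_def, ← Category.assoc, hd, hd]
  let Φ : (Coh.structureModule X ⟶ Q) →ₗ[k] Coh.HH X (sub Z (res L W)) 1 :=
    { toFun := fun w => Canon.HHlin k (subMap Z (endo L (d w))) 1 y
      map_add' := fun a b => by
        rw [hd_add, endo_add, subMap_add, H29Serre.lin_add]; rfl
      map_smul' := fun c a => by
        rw [hd_smul, smul_def, endo_scal hL, subMap_comp, subMap_scal,
          H25Par.hhlin_comp]
        rfl }
  refine LinearMap.finrank_le_finrank_of_injective (f := Φ) ?_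
  rw [injective_iff_map_eq_zero]
  intro w hw
  by_contra hne
  have hφ : d w ≠ 0 := fun h0 => hne (by rw [← hd w, h0, comp_zero])
  exact hy ((bijective_endo (k := k) hdim Z hZ hL hW hmin hφ).1 (hw.trans (map_zero _).symm))

include hdim hZ hL in
/-- A minimal subcurve has no nonzero endomorphisms with zero composite. -/
theorem comp_ne_zero_of_minimal {W : Closeds X} (hW : IsPure W) (hmin : IsMinimal k Z L W)
    (hn : Nontrivial (Coh.HH X (sub Z (res L W)) 1)) {φ ψ : ClSub.quotMod (idl W) ⟶ ClSub.quotMod (idl W)}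
    (hφ : φ ≠ 0) (hψ : ψ ≠ 0) : φ ≫ ψ ≠ 0 := by
  intro h0
  obtain ⟨y, hy⟩ := exists_ne (0 : Coh.HH X (sub Z (res L W)) 1)
  have h1 : endo L φ ≫ endo L ψ = 0 := by
    rw [← endo_comp, h0, endo_zero]
  refine hy ((bijective_endo (k := k) hdim Z hZ hL hW hmin hφ).1 ((bijective_endo (k := k) hdim Z hZ hL hW hmin hψ).1 ?_))
  rw [← LinearMap.comp_apply, ← H25Par.hhlin_comp, ← subMap_comp, h1, subMap_zero, H29Serre.lin_zero,
    LinearMap.zero_apply, map_zero, map_zero]

end Groth.Agent.H29CurveDual.Subcurve
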