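import Groth.Agent.H29CurveDual.Subcurve.Points
import Groth.Agent.H25Par.TwistSeq
import Groth.Agent.H28Vert.QuotTensor
import Groth.Agent.H25Euler.Mult
import Groth.Agent.H17.Reduced
import Groth.Agent.H16Derived.KFlat.PerfCoh
import Groth.Agent.H10Coh.TwistExact

/-!
# Restrictions of a twisted ideal to reduced subcurves
-/

set_option autoImplicit false
set_option linter.style.haveILetI false

universe u

open CategoryTheory CategoryTheory.Limits AlgebraicGeometry TopologicalSpace Opposite

namespace Groth.Agent.H29CurveDual.Subcurve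

attribute [local instance 10000] H10Coh.hasSheafifyAb H10Coh.hasWeakSheafifyAb H10Coh.hasExtAb H10Coh.enoughInjAb

variable {X : Scheme.{u}}

/-- A closed set in which the nonclosed points are dense. -/
def IsPure (W : Closeds X) : Prop := (W : Set X) ⊆ closure {η | η ∈ W ∧ ¬ IsClosed ({η} : Set X)}

/-- The ideal of a closed set. -/
noncomputable abbrev idl (W : Closeds X) : X.IdealSheafData := Scheme.IdealSheafData.vanishingIdeal W

theorem idl_antimono {W W' : Closeds X} (h : W' ≤ W) : idl W ≤ idl W' :=
  Scheme.IdealSheafData.vanishingIdeal_antimono h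

/-- A larger ideal gives a quotient. -/
theorem exists_quotMap {A B : X.IdealSheafData} (h : A ≤ B) :
    ∃ q : ClSub.quotMod A ⟶ ClSub.quotMod B, ClSub.toSubscheme A ≫ q = ClSub.toSubscheme B ∧ Epi q := by
  haveI := H10Coh.epi_toSubscheme A
  haveI := H10Coh.epi_toSubscheme B
  have hS := H10Coh.shortExact_kernel (ClSub.toSubscheme A)
  obtain ⟨q, hq⟩ := CokernelCofork.IsColimit.desc' hS.gIsCokernel (ClSub.toSubscheme B) (H28Vert.le_of_ideal h)
  exact ⟨q, hq, epi_of_epi_fac (show ClSub.toSubscheme A ≫ q = ClSub.toSubscheme B from hq)⟩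

theorem mem_support_quot [IsLocallyNoetherian X] (A : X.IdealSheafData) :
    CohB1.support (ClSub.quotMod A) = (A.support : Set X) := by
  rw [← H28Vert.support_cokernel_idealModι A]
  exact Set.Subset.antisymm (LeadDev.support_subset_of_iso (H28Vert.cokernelIdealModιIso A).symm)
    (LeadDev.support_subset_of_iso (H28Vert.cokernelIdealModιIso A))

/-- The restriction of `L` to a closed set with its reduced structure. -/
noncomputable abbrev res (L : X.Modules) (W : Closeds X) : X.Modules :=
  CohB1.tensorMod (ClSub.quotMod (idl W)) L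

theorem isCoh_res [IsNoetherian X] {L : X.Modules} (hL : PicF.IsInvertible L) (W : Closeds X) :
    Coh.IsCoh (res L W) :=
  H11Ample.isCoh_tensor (LeadDev.isCoh_push_structure (idl W).subschemeι) hL

theorem nontrivial_stalk_res_iff [IsNoetherian X] {L : X.Modules} (hL : PicF.IsInvertible L)
    (W : Closeds X) (η : X) : Nontrivial ((res L W).presheaf.stalk η) ↔ η ∈ W := by
  have h : CohB1.support (res L W) = (W : Set X) := by
    refine (H25Euler.support_tensor_invertible (LeadDev.isCoh_push_structure (idl W).subschemeι) hL).trans ?_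
    rw [← Scheme.IdealSheafData.coe_support_vanishingIdeal]
    exact mem_support_quot (idl W)
  rw [← not_subsingleton_iff_nontrivial]
  exact Set.ext_iff.1 h η

/-- The restriction map. -/
noncomputable def proj (L : X.Modules) (W : Closeds X) : L ⟶ res L W :=
  (H10Coh.Tw.leftUnitIso L).inv ≫ LimSh.tensorModMap (ClSub.toSubscheme (idl W)) L

theorem epi_proj {L : X.Modules} (hL : PicF.IsInvertible L) (W : Closeds X) : Epi (proj L W) := by
  haveI := H10Coh.epi_toSubscheme (idl W)
  haveI := H10Coh.Tw.epi_map (ClSub.toSubscheme (idl W)) hL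
  exact epi_comp _ _

theorem exists_resMap {L : X.Modules} (hL : PicF.IsInvertible L) {W W' : Closeds X} (h : W' ≤ W) :
    ∃ r : res L W ⟶ res L W', proj L W ≫ r = proj L W' ∧ Epi r := by
  obtain ⟨q, hq, -⟩ := exists_quotMap (idl_antimono h)
  have e : proj L W ≫ LimSh.tensorModMap q L = proj L W' := by
    rw [proj, Category.assoc, ← LimSh.tensorModMap_comp, hq]; rfl
  haveI := epi_proj hL W'
  exact ⟨_, e, epi_of_epi_fac e⟩

theorem bijective_stalk_resMap [IsReduced X] [IsNoetherian X] (hdim : topologicalKrullDim X ≤ 1)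
    {L : X.Modules} (hL : PicF.IsInvertible L) {W W' : Closeds X} (r : res L W ⟶ res L W')
    (hr : proj L W ≫ r = proj L W') {η : X} (hη : ¬ IsClosed ({η} : Set X)) (hm : η ∈ W') :
    Function.Bijective ((DerSch.stalkFunctor X η).map r).hom := by
  haveI := epi_proj hL W
  haveI := epi_proj hL W'
  have h := bijective_stalk_of_epi hdim hL (proj L W') hη ((nontrivial_stalk_res_iff hL W' η).2 hm)
  rw [← hr, Functor.map_comp, ModuleCat.hom_comp, LinearMap.coe_comp] at h
  have hs : Function.Surjective ((DerSch.stalkFunctor X η).map (proj L W)).hom :=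
    (ModuleCat.epi_iff_surjective _).1 (inferInstance : Epi ((DerSch.stalkFunctor X η).map (proj L W)))
  refine ⟨fun a b hab => ?_, fun y => ?_⟩
  · obtain ⟨a, rfl⟩ := hs a
    obtain ⟨b, rfl⟩ := hs b
    rw [h.1 hab]
  · obtain ⟨a, rfl⟩ := h.2 y
    exact ⟨_, rfl⟩

/-- Sections of the restriction to a pure closed set are determined at the nonclosed points. -/
theorem res_section_eq_zero [IsNoetherian X] {L : X.Modules} (hL : PicF.IsInvertible L) {W : Closeds X}
    (hW : IsPure W) {U : X.Opens} (s : Γ(res L W, U))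
    (h : ∀ (η : X) (hU : η ∈ U), ¬ IsClosed ({η} : Set X) → (res L W).presheaf.germ U η hU s = 0) : s = 0 := by
  refine H11Tilde.eq_of_locally _ _ fun x hx => ?_
  obtain ⟨V, hV, e, m, hxV, he, hm⟩ := H10Coh.Tw.exists_eq_tm hL
    (show Γ(CohB1.tensorMod (ClSub.quotMod (idl W)) L, U) from s) hx
  refine ⟨V, hV, hxV, ?_⟩
  let Y := (idl W).subscheme
  let ι := (idl W).subschemeι
  haveI : AlgebraicGeometry.IsReduced Y := H17.isReduced_vanishingIdeal_subscheme W
  have hm0 : m = 0 := by
    let mY : Γ(Y, ι ⁻¹ᵁ V) := m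
    show mY = 0
    refine (AlgebraicGeometry.basicOpen_eq_bot_iff mY).1 (eq_bot_iff.2 fun y hy => ?_)
    exfalso
    obtain ⟨O, hO, hOe⟩ := ι.isEmbedding.isOpen_iff.1 (Y.basicOpen mY).isOpen
    have hyW : ι y ∈ (W : Set X) := by
      rw [← Scheme.IdealSheafData.coe_support_vanishingIdeal, ← Scheme.IdealSheafData.range_subschemeι]
      exact ⟨y, rfl⟩
    obtain ⟨η, hηO, hηW, hη⟩ := mem_closure_iff.1 (hW hyW) O hO (hOe.ge hy)
    obtain ⟨z, hz⟩ : η ∈ Set.range ι := by
      rw [Scheme.IdealSheafData.range_subschemeι, Scheme.IdealSheafData.coe_support_vanishingIdeal]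
      exact hηW
    subst hz
    have hzb : z ∈ Y.basicOpen mY := hOe.le hηO
    have hzV : ι z ∈ V := Y.basicOpen_le mY hzb
    have hg := h (ι z) (hV hzV) hη
    rw [← TopCat.Presheaf.germ_res_apply (res L W).presheaf (homOfLE hV) _ hzV s] at hg
    obtain ⟨V', hzV', i, i', heq⟩ := TopCat.Presheaf.germ_eq (res L W).presheaf _ hzV hzV _ 0
      (hg.trans (map_zero _).symm)
    have heq' : (CohB1.tensorMod (ClSub.quotMod (idl W)) L).presheaf.map i.op (H11Ample.tm m e) = 0 := by
      rw [← hm]; exact heq.trans (map_zero _)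
    erw [H11Ample.tm_res i.le] at heq'
    have h0 := H10Coh.Tw.tm_inj (he.res i.le) (heq'.trans (H11Ample.tm_zero_left _).symm)
    have hb : z ∈ Y.basicOpen (Y.presheaf.map (homOfLE (ι.preimage_mono i.le)).op mY) := by
      rw [Scheme.basicOpen_res]; exact ⟨hzV', hzb⟩
    rw [show Y.presheaf.map (homOfLE (ι.preimage_mono i.le)).op mY = 0 from h0, Scheme.basicOpen_zero] at hb
    exact hb
  refine hm.trans ?_
  rw [hm0]
  exact (H11Ample.tm_zero_left _).trans (map_zero _).symm

/-- A morphism into the restriction to a pure closed set vanishing at its nonclosed points vanishes. -/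
theorem hom_res_eq_zero [IsNoetherian X] {L : X.Modules} (hL : PicF.IsInvertible L) {W : Closeds X}
    (hW : IsPure W) {F : X.Modules} (φ : F ⟶ res L W)
    (h : ∀ η ∈ W, ¬ IsClosed ({η} : Set X) → ((DerSch.stalkFunctor X η).map φ).hom = 0) : φ = 0 := by
  refine Scheme.Modules.hom_ext _ _ fun U => ?_
  ext t
  show φ.app U t = 0
  refine res_section_eq_zero hL hW _ fun η hU hη => ?_
  by_cases hm : η ∈ W
  · refine (H06Mod.stalkLin_germ φ η U hU t).symm.trans ?_
    exact LinearMap.congr_fun (h η hm hη) _
  · haveI : Subsingleton ((res L W).presheaf.stalk η) :=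
      not_nontrivial_iff_subsingleton.1 fun hn => hm ((nontrivial_stalk_res_iff hL W η).1 hn)
    exact Subsingleton.elim _ _

end Groth.Agent.H29CurveDual.Subcurve
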