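import Groth.Agent.H29CurveDual.Subcurve.Quot
import Groth.Agent.H29RR.Pencil
import Groth.Agent.H10Coh.TensorTilde

/-!
# The twisted ideal on a subcurve and the images of morphisms into it
-/

set_option autoImplicit false
set_option linter.style.haveILetI false

universe u

open CategoryTheory CategoryTheory.Limits AlgebraicGeometry TopologicalSpace Opposite
open Groth.Agent.H29RR Groth.Agent.H06Mod

namespace Groth.Agent.H29CurveDual.Subcurve

attribute [local instance 10000] H10Coh.hasSheafifyAb H10Coh.hasWeakSheafifyAb H10Coh.hasExtAb H10Coh.enoughInjAb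

variable {X : Scheme.{u}}

theorem stalkLin_comp {F G H : X.Modules} (φ : F ⟶ G) (ψ : G ⟶ H) (x : X) (a : F.presheaf.stalk x) :
    stalkLin (φ ≫ ψ) x a = stalkLin ψ x (stalkLin φ x a) := by
  obtain ⟨U, hU, a, rfl⟩ := F.presheaf.exists_germ_eq a
  rw [stalkLin_germ, stalkLin_germ, stalkLin_germ]
  rfl

/-- A kernel has no stalk where the map is injective, and equals the source where the target has none. -/
theorem bijective_stalk_kernelι {F G : X.Modules} (φ : F ⟶ G) [Epi φ] {x : X}
    (h : Subsingleton (G.presheaf.stalk x)) : Function.Bijective (stalkLin (kernel.ι φ) x) := by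
  have hS : (ShortComplex.mk (kernel.ι φ) φ (kernel.condition φ)).ShortExact :=
    H10Coh.shortExact_kernel φ
  refine ⟨stalk_injective _ hS x, fun b => ?_⟩
  exact (stalk_exact _ hS x b).1 (Subsingleton.elim _ _)

variable (Z : X.IdealSheafData)

theorem epi_resProj (E : X.Modules) : Epi (H25Par.resProj Z E) :=
  let ⟨h⟩ := H25Par.exists_cokernel_twistMap Z E
  Cofork.IsColimit.epi h

/-- The part of a module killed modulo an ideal. -/
noncomputable abbrev sub (E : X.Modules) : X.Modules := kernel (H25Par.resProj Z E)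

/-- The inclusion. -/
noncomputable abbrev subι (E : X.Modules) : sub Z E ⟶ E := kernel.ι _

/-- Functoriality. -/
noncomputable def subMap {E F : X.Modules} (φ : E ⟶ F) : sub Z E ⟶ sub Z F :=
  kernel.lift _ (subι Z E ≫ φ) (by
    rw [Category.assoc, H25Par.resProj_natural, ← Category.assoc, kernel.condition, zero_comp])

theorem subMap_ι {E F : X.Modules} (φ : E ⟶ F) : subMap Z φ ≫ subι Z F = subι Z E ≫ φ :=
  kernel.lift_ι _ _ _

theorem subMap_comp {E F H : X.Modules} (φ : E ⟶ F) (ψ : F ⟶ H) :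
    subMap Z (φ ≫ ψ) = subMap Z φ ≫ subMap Z ψ := by
  rw [← cancel_mono (subι Z H), Category.assoc, subMap_ι, subMap_ι, ← Category.assoc, ← Category.assoc,
    subMap_ι, Category.assoc]

theorem isCoh_sub [IsNoetherian X] {E : X.Modules} (hE : Coh.IsCoh E) : Coh.IsCoh (sub Z E) := by
  haveI : E.IsQuasicoherent := hE.1
  haveI : (ClSub.quotMod Z).IsQuasicoherent := (LeadDev.isCoh_push_structure Z.subschemeι).1
  exact H10Coh.isCoh_kernel _ hE (H10Coh.TT.isQCoh_tensorMod E (ClSub.quotMod Z))

theorem subsingleton_stalk_resD [IsNoetherian X] (E : X.Modules) {x : X} (hx : x ∉ Z.support) :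
    Subsingleton ((ParSh.resD Z E).presheaf.stalk x) := by
  have h : x ∉ CohB1.support (CohB1.tensorMod (ClSub.quotMod Z) E) := fun h =>
    hx ((mem_support_quot Z).le (H25Euler.support_tensor_subset _ _ h))
  by_contra hne
  exact h (LeadDev.support_subset_of_iso (H10Coh.Tw.commIso E (ClSub.quotMod Z)) hne)

theorem bijective_stalk_subι [IsNoetherian X] (E : X.Modules) {x : X} (hx : x ∉ Z.support) :
    Function.Bijective (stalkLin (subι Z E) x) := by
  haveI := epi_resProj Z E
  exact bijective_stalk_kernelι _ (subsingleton_stalk_resD Z E hx)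

theorem epi_subMap {E F : X.Modules} (φ : E ⟶ F) [Epi φ] : Epi (subMap Z φ) := by
  have hl : ∀ G : X.Modules, ∃ a : CohB1.tensorMod G (ClSub.idealMod Z) ⟶ sub Z G,
      a ≫ subι Z G = ParSh.twistMap Z G ∧ Epi a := fun G => by
    refine ⟨kernel.lift _ (ParSh.twistMap Z G) (H25Par.twistMap_comp_resProj Z G), kernel.lift_ι _ _ _, ?_⟩
    obtain ⟨h⟩ := H25Par.exists_cokernel_twistMap Z G
    exact ((ShortComplex.mk (ParSh.twistMap Z G) (H25Par.resProj Z G)
      (H25Par.twistMap_comp_resProj Z G)).exact_iff_epi_kernel_lift).1 (ShortComplex.exact_of_g_is_cokernel _ h)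
  obtain ⟨a, ha, -⟩ := hl E
  obtain ⟨b, hb, hb'⟩ := hl F
  haveI := hb'
  haveI : Epi (KoszTw.tensorMap φ (𝟙 (ClSub.idealMod Z))) := by
    haveI := preservesColimitsOfSize_shrink.{0, u, 0, u} ((DCoh.tensorBi (X := X)).flip.obj (ClSub.idealMod Z))
    rw [← KoszTw.tensorBi_map_app]
    exact inferInstanceAs (Epi (((DCoh.tensorBi (X := X)).flip.obj (ClSub.idealMod Z)).map φ))
  have h : a ≫ subMap Z φ = KoszTw.tensorMap φ (𝟙 (ClSub.idealMod Z)) ≫ b := by
    rw [← cancel_mono (subι Z F), Category.assoc, subMap_ι, ← Category.assoc, ha, Category.assoc, hb,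
      H25Par.twistMap_natural]
  haveI : Epi (KoszTw.tensorMap φ (𝟙 (ClSub.idealMod Z)) ≫ b) := epi_comp _ _
  exact epi_of_epi_fac h

/-- In the stalk of an invertible module at a nonclosed point any nonzero element generates. -/
theorem exists_smul_eq [IsReduced X] (hdim : topologicalKrullDim X ≤ 1) {L : X.Modules} (hL : PicF.IsInvertible L)
    {η : X} (hη : ¬ IsClosed ({η} : Set X)) {a : L.presheaf.stalk η} (ha : a ≠ 0) (b : L.presheaf.stalk η) :
    ∃ c : X.presheaf.stalk η, c • a = b := by
  obtain ⟨V, e, hηV, he⟩ := H11Ample.exists_gen hL η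
  obtain ⟨α, rfl⟩ := (he η hηV).2 a
  obtain ⟨β, rfl⟩ := (he η hηV).2 b
  have hα : α ≠ 0 := fun h0 => ha (by rw [h0]; exact zero_smul _ _)
  obtain ⟨γ, hγ⟩ := (isField_stalk hdim hη).mul_inv_cancel hα
  exact ⟨β * γ, by simp only [smul_smul]; rw [mul_assoc, mul_comm γ, hγ, mul_one]⟩

/-- In first cohomology, what dies in the cokernel comes from the source. -/
theorem ker_le_range_hhlin {k : Type u} [Field k] [X.Over (Spec (CommRingCat.of k))] [IsNoetherian X]
    (hdim : topologicalKrullDim X ≤ 1) {F G : X.Modules} (φ : F ⟶ G) :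
    LinearMap.ker (Canon.HHlin k (cokernel.π φ) 1) ≤ LinearMap.range (Canon.HHlin k φ 1) := by
  haveI h2 : Subsingleton (Coh.HH X (kernel φ) 2) :=
    LeadVan.subsingleton_H_of_dim_le 1 (by exact_mod_cast hdim) _ 2 one_lt_two
  have hS₁ : (ShortComplex.mk (kernel.ι φ) (Abelian.factorThruImage φ)
      (by rw [← cancel_mono (Abelian.image.ι φ), Category.assoc, Abelian.image.fac, kernel.condition,
        zero_comp])).ShortExact :=
    { exact := ShortComplex.exact_of_f_is_kernel _ (KernelFork.IsLimit.ofι' _ _ fun g hg =>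
        ⟨kernel.lift φ g (by
          rw [← Abelian.image.fac φ, ← Category.assoc, hg, zero_comp]), kernel.lift_ι _ _ _⟩)
      epi_g := inferInstanceAs (Epi (Abelian.factorThruImage φ)) }
  have hS₂ : (ShortComplex.mk (Abelian.image.ι φ) (cokernel.π φ) (kernel.condition _)).ShortExact :=
    { exact := ShortComplex.exact_kernel _ }
  intro y hy
  obtain ⟨z, hz⟩ := Abelian.Ext.covariant_sequence_exact₂ _ (H10Coh.shortExact_sh hS₂) y hy
  obtain ⟨x, hx⟩ := Abelian.Ext.covariant_sequence_exact₃ _ (H10Coh.shortExact_sh hS₁) z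
    (n₁ := 2) rfl (@Subsingleton.elim (Coh.HH X (kernel φ) 2) h2 _ _)
  refine ⟨x, ?_⟩
  rw [← Abelian.image.fac φ, H25Par.hhlin_comp]
  exact (congrArg (Canon.HHlin k (Abelian.image.ι φ) 1) hx).trans hz

theorem finite_nonclosed [IsNoetherian X] (hdim : topologicalKrullDim X ≤ 1) :
    {η : X | ¬ IsClosed ({η} : Set X)}.Finite :=
  (genericPoints.finite NoetherianSpace.finite_irreducibleComponents).subset
    fun _ hη => mem_genericPoints_of_not_isClosed hdim hη

/-- A nonzero morphism into the twisted ideal on a subcurve covers, in first cohomology, what dies on a proper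
pure subcurve. -/
theorem exists_lt_ker_le_range {k : Type u} [Field k] [X.Over (Spec (CommRingCat.of k))] [IsNoetherian X]
    [IsReduced X] (hdim : topologicalKrullDim X ≤ 1) {L : X.Modules} (hL : PicF.IsInvertible L)
    (hZ : ∀ η : X, ¬ IsClosed ({η} : Set X) → η ∉ Z.support)
    {W : Closeds X} (hW : IsPure W) {F : X.Modules} (hF : Coh.IsQCoh F) (s : F ⟶ sub Z (res L W))
    (hs : s ≠ 0) :
    ∃ W' : Closeds X, W' < W ∧ IsPure W' ∧
      (∀ η ∈ W', ¬ IsClosed ({η} : Set X) → stalkLin (s ≫ subι Z (res L W)) η = 0) ∧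
      (∀ η ∈ W, ¬ IsClosed ({η} : Set X) → η ∉ W' → stalkLin (s ≫ subι Z (res L W)) η ≠ 0) ∧
      ∀ r : res L W ⟶ res L W', proj L W ≫ r = proj L W' →
        LinearMap.ker (Canon.HHlin k (subMap Z r) 1) ≤ LinearMap.range (Canon.HHlin k s 1) := by
  classical
  let T : Set X := {η | η ∈ W ∧ ¬ IsClosed ({η} : Set X) ∧ stalkLin (s ≫ subι Z (res L W)) η = 0}
  have hTfin : T.Finite := (finite_nonclosed hdim).subset fun η hη => hη.2.1
  let W' : Closeds X := ⟨closure T, isClosed_closure⟩
  have hW'W : W' ≤ W := closure_minimal (fun η hη => hη.1) W.isClosed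
  have hmem : ∀ η : X, ¬ IsClosed ({η} : Set X) → η ∈ W' → η ∈ T := fun η hη hm => by
    rw [show (η ∈ W') = (η ∈ closure T) from rfl, ← Set.biUnion_of_singleton T, hTfin.closure_biUnion] at hm
    obtain ⟨t, ht, hηt⟩ := Set.mem_iUnion₂.1 hm
    have h1 : t ⤳ η := specializes_iff_mem_closure.2 hηt
    rwa [← H8Props.mem_genericPoints_iff.1 (mem_genericPoints_of_not_isClosed hdim hη) t h1]
  have hpure : IsPure W' := closure_mono fun η hη => ⟨subset_closure hη, hη.2.1⟩
  have hlt : W' < W := by
    refine lt_of_le_of_ne hW'W fun e => hs ?_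
    rw [← cancel_mono (subι Z (res L W)), zero_comp]
    refine hom_res_eq_zero hL hW _ fun η hηW hη => ?_
    exact (hmem η hη (e.ge hηW)).2.2
  refine ⟨W', hlt, hpure, fun η hm hη => (hmem η hη hm).2.2,
    fun η hηW hη hnm h0 => hnm (subset_closure ⟨hηW, hη, h0⟩), fun r hr => ?_⟩
  let ρ₀ := subMap Z r
  have hsr : s ≫ ρ₀ = 0 := by
    rw [← cancel_mono (subι Z (res L W')), zero_comp, Category.assoc, subMap_ι, ← Category.assoc]
    refine hom_res_eq_zero hL hpure _ fun η hm hη => ?_
    refine LinearMap.ext fun a => ?_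
    refine (stalkLin_comp (s ≫ subι Z (res L W)) r η a).trans ?_
    rw [(hmem η hη hm).2.2]
    exact map_zero _
  let ρ : cokernel s ⟶ sub Z (res L W') := cokernel.desc s ρ₀ hsr
  haveI : Epi ρ₀ := by
    haveI := epi_proj hL W'
    haveI : Epi r := epi_of_epi_fac hr
    exact epi_subMap Z r
  haveI : Epi ρ := epi_of_epi_fac (cokernel.π_desc s ρ₀ hsr)
  have hGW : Coh.IsCoh (sub Z (res L W)) := isCoh_sub Z (isCoh_res hL W)
  have hQ : Coh.IsCoh (cokernel s) := H10Coh.isCoh_cokernel s hF hGW
  have hK : Coh.IsCoh (kernel ρ) := H10Coh.isCoh_kernel ρ hQ (isCoh_sub Z (isCoh_res hL W')).1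
  obtain ⟨-, -, hK1⟩ := subsingleton_HH_one hK fun η hη => by
    have hι := bijective_stalk_subι Z (res L W) (hZ η hη)
    refine H10Coh.subsingleton_stalk_kernel ρ η ?_
    change Function.Injective (stalkLin ρ η)
    have hπ : Function.Surjective (stalkLin (cokernel.π s) η) := surjective_stalk_of_epi _ η
    by_cases hm : η ∈ W'
    · refine (injective_iff_map_eq_zero _).2 fun q hq => ?_
      obtain ⟨a, rfl⟩ := hπ q
      rw [← stalkLin_comp, cokernel.π_desc] at hq
      have h1 : stalkLin r η (stalkLin (subι Z (res L W)) η a) = 0 := by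
        rw [← stalkLin_comp, ← subMap_ι, stalkLin_comp, hq, map_zero]
      have hb : Function.Bijective (stalkLin r η) := bijective_stalk_resMap hdim hL r hr hη hm
      have h2 : a = 0 := hι.1 ((hb.1 (h1.trans (map_zero _).symm)).trans (map_zero _).symm)
      rw [h2, map_zero]
    · haveI : Subsingleton ((cokernel s).presheaf.stalk η) := by
        by_cases hηW : η ∈ W
        · refine H10Coh.subsingleton_stalk_cokernel s η ?_
          change Function.Surjective (stalkLin s η)
          intro b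
          have hne : stalkLin (s ≫ subι Z (res L W)) η ≠ 0 := fun h0 => hm (subset_closure ⟨hηW, hη, h0⟩)
          obtain ⟨a, ha⟩ : ∃ a, stalkLin (s ≫ subι Z (res L W)) η a ≠ 0 := by
            by_contra hc
            push Not at hc
            exact hne (LinearMap.ext hc)
          rw [stalkLin_comp] at ha
          have hp : Function.Bijective (stalkLin (proj L W) η) := by
            haveI := epi_proj hL W
            exact bijective_stalk_of_epi hdim hL (proj L W) hη ((nontrivial_stalk_res_iff hL W η).2 hηW)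
          obtain ⟨a₁, ha₁⟩ := hp.2 (stalkLin (subι Z (res L W)) η (stalkLin s η a))
          obtain ⟨b₁, hb₁⟩ := hp.2 (stalkLin (subι Z (res L W)) η b)
          obtain ⟨c, hc⟩ := exists_smul_eq hdim hL hη (a := a₁)
            (fun h0 => ha (by rw [← ha₁, h0, map_zero])) b₁
          refine ⟨c • a, hι.1 ?_⟩
          rw [map_smul, map_smul, ← ha₁, ← map_smul, hc, hb₁]
        · refine H25Par.subsingleton_stalk_of_epi (cokernel.π s)
            (H25Par.subsingleton_stalk_of_mono (subι Z (res L W)) ?_)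
          exact not_nontrivial_iff_subsingleton.1 fun hn => hηW ((nontrivial_stalk_res_iff hL W η).1 hn)
      exact fun a b _ => Subsingleton.elim a b
  intro y hy
  refine ker_le_range_hhlin hdim s ?_
  rw [LinearMap.mem_ker] at hy ⊢
  have h1 : Canon.HHlin k ρ 1 (Canon.HHlin k (cokernel.π s) 1 y) = 0 := by
    rw [← LinearMap.comp_apply, ← H25Par.hhlin_comp, cokernel.π_desc]
    exact hy
  obtain ⟨x, hx⟩ := Abelian.Ext.covariant_sequence_exact₂ _ (H10Coh.shortExact_sh (H10Coh.shortExact_kernel ρ)) _ h1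
  rw [← hx, show x = 0 from @Subsingleton.elim (Coh.HH X (kernel ρ) 1) hK1 _ _]
  exact map_zero (Canon.HHlin k (kernel.ι ρ) 1)

end Groth.Agent.H29CurveDual.Subcurve
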