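import Groth.Agent.H29CurveDual.Subcurve.Sub
import Groth.Agent.H29CurveDual.HomK
import Groth.Agent.H16Derived.Dual.Symm
import Groth.Agent.H17.OmegaAffine

/-!
# The whole curve as a subcurve, and endomorphisms of the restrictions
-/

set_option autoImplicit false
set_option linter.style.haveILetI false

universe u

open CategoryTheory CategoryTheory.Limits AlgebraicGeometry TopologicalSpace Opposite
open Groth.Agent.H29RR Groth.Agent.H06Mod

namespace Groth.Agent.H29CurveDual.Subcurve

attribute [local instance 10000] H10Coh.hasSheafifyAb H10Coh.hasWeakSheafifyAb H10Coh.hasExtAb H10Coh.enoughInjAb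
attribute [local instance] homModule

variable {X : Scheme.{u}}

/-- A connected curve has no isolated points. -/
theorem isPure_top [IsNoetherian X] [ConnectedSpace X] (hdim : topologicalKrullDim X = 1) :
    IsPure (⊤ : Closeds X) := by
  classical
  let N : Set X := {η | ¬ IsClosed ({η} : Set X)}
  have hN : N.Finite := finite_nonclosed hdim.le
  intro x _
  show x ∈ closure {η | η ∈ (⊤ : Closeds X) ∧ ¬ IsClosed ({η} : Set X)}
  rw [show {η | η ∈ (⊤ : Closeds X) ∧ ¬ IsClosed ({η} : Set X)} = N from Set.ext fun η => ⟨fun h => h.2, fun h => ⟨trivial, h⟩⟩]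
  by_contra hx
  have hfin : ((closure N)ᶜ).Finite := (genericPoints.finite NoetherianSpace.finite_irreducibleComponents).subset
    fun z hz => H8Props.mem_genericPoints_iff.2 fun w hw => by
      by_cases hwc : IsClosed ({w} : Set X)
      · exact ((Set.mem_singleton_iff.1 (hwc.closure_subset (specializes_iff_mem_closure.1 hw))).symm)
      · exact absurd (closure_mono (Set.singleton_subset_iff.2 hwc) (specializes_iff_mem_closure.1 hw)) hz
  have hcl : IsClosed ((closure N)ᶜ) := by
    rw [← Set.biUnion_of_singleton ((closure N)ᶜ)]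
    refine hfin.isClosed_biUnion fun z hz => ?_
    by_contra hne
    exact hz (subset_closure hne)
  have huniv : (closure N)ᶜ = Set.univ := IsClopen.eq_univ ⟨hcl, isClosed_closure.isOpen_compl⟩ ⟨x, hx⟩
  have hfinX : Finite X := Set.finite_univ_iff.1 (huniv ▸ hfin)
  haveI : DiscreteTopology X := by
    haveI : T1Space X := ⟨fun z => by
      by_contra hne
      exact (huniv.ge (Set.mem_univ z)) (subset_closure hne)⟩
    exact Finite.instDiscreteTopology
  haveI : Nonempty X := inferInstance
  have h0 : topologicalKrullDim X ≤ 0 := topologicalKrullDim_zero_of_discreteTopology X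
  rw [hdim] at h0
  exact absurd h0 (by norm_num)

theorem isIso_proj_top [IsReduced X] (L : X.Modules) : IsIso (proj L (⊤ : Closeds X)) := by
  have h0 : idl (⊤ : Closeds X) = ⊥ := by
    rw [idl, Scheme.IdealSheafData.vanishingIdeal_top, Scheme.nilradical_eq_bot]
  haveI : IsIso (idl (⊤ : Closeds X)).subschemeι := (Scheme.isIso_subschemeι_iff_eq_bot _).2 h0
  haveI : IsIso (ClSub.toSubscheme (idl (⊤ : Closeds X))) :=
    H17.OmegaAffine.isIso_unitToPush (idl (⊤ : Closeds X)).subschemeι
  haveI : IsIso (LimSh.tensorModMap (ClSub.toSubscheme (idl (⊤ : Closeds X))) L) := by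
    refine ⟨LimSh.tensorModMap (inv (ClSub.toSubscheme (idl (⊤ : Closeds X)))) L, ?_, ?_⟩ <;>
      rw [← LimSh.tensorModMap_comp] <;> simp only [IsIso.hom_inv_id, IsIso.inv_hom_id] <;>
      exact LimSh.tensorModMap_id _ _
  exact IsIso.comp_isIso

theorem subMap_id (Z : X.IdealSheafData) (E : X.Modules) : subMap Z (𝟙 E) = 𝟙 _ := by
  rw [← cancel_mono (subι Z E), subMap_ι, Category.comp_id, Category.id_comp]

theorem nonempty_sub_invertible_iso (Z : X.IdealSheafData) {L : X.Modules} (hL : PicF.IsInvertible L) :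
    Nonempty (CohB1.tensorMod (ClSub.idealMod Z) L ≅ sub Z L) := by
  have hflat : FlatMod.IsFlat L :=
    H16Derived.KFlat.Stalk.isFlat_of_isFinLocFree (H28Pinch.isFinLocFree_of_isInvertible hL)
  haveI := H10Coh.epi_toSubscheme Z
  have hS := H10Coh.shortExact_kernel (ClSub.toSubscheme Z)
  have hS' := H16Derived.KFlat.Stalk.isFlatObj_of_isFlat hflat _ hS
  let β : (DCoh.tensorBi (X := X)).obj L ≅ (DCoh.tensorBi (X := X)).flip.obj L :=
    (H16Derived.Dual.braidM (X := X)).app L
  have hm : Mono (((DCoh.tensorBi (X := X)).obj L).map (ClSub.idealModι Z)) := by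
    haveI : Mono (((DCoh.tensorBi (X := X)).flip.obj L).map (ClSub.idealModι Z)) := hS'.mono_f
    have h := β.hom.naturality (ClSub.idealModι Z)
    have e : ((DCoh.tensorBi (X := X)).obj L).map (ClSub.idealModι Z) =
        β.hom.app _ ≫ ((DCoh.tensorBi (X := X)).flip.obj L).map (ClSub.idealModι Z) ≫ β.inv.app _ := by
      rw [← Category.assoc, ← h, Category.assoc, Iso.hom_inv_id_app, Category.comp_id]
    rw [e]
    exact mono_comp' inferInstance (mono_comp' inferInstance inferInstance)
  haveI : Mono (ParSh.twistMap Z L) := by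
    rw [ParSh.twistMap, H25Par.tensorMap_left]
    exact mono_comp' hm inferInstance
  obtain ⟨hc⟩ := H25Par.exists_cokernel_twistMap Z L
  let a : CohB1.tensorMod L (ClSub.idealMod Z) ⟶ sub Z L :=
    kernel.lift _ (ParSh.twistMap Z L) (H25Par.twistMap_comp_resProj Z L)
  have ha : a ≫ subι Z L = ParSh.twistMap Z L := kernel.lift_ι _ _ _
  haveI : Epi a := ((ShortComplex.mk (ParSh.twistMap Z L) (H25Par.resProj Z L)
      (H25Par.twistMap_comp_resProj Z L)).exact_iff_epi_kernel_lift).1 (ShortComplex.exact_of_g_is_cokernel _ hc)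
  haveI : Mono a := mono_of_mono_fac ha
  haveI : IsIso a := isIso_of_mono_of_epi a
  exact ⟨H10Coh.Tw.commIso _ _ ≪≫ asIso a⟩

theorem nonempty_sub_top_iso [IsReduced X] (Z : X.IdealSheafData) {L : X.Modules} (hL : PicF.IsInvertible L) :
    Nonempty (CohB1.tensorMod (ClSub.idealMod Z) L ≅ sub Z (res L (⊤ : Closeds X))) := by
  obtain ⟨e⟩ := nonempty_sub_invertible_iso Z hL
  haveI := isIso_proj_top L
  let p := asIso (proj L (⊤ : Closeds X))
  refine ⟨e ≪≫ ⟨subMap Z p.hom, subMap Z p.inv, ?_, ?_⟩⟩ <;> rw [← subMap_comp] <;>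
    simp only [Iso.hom_inv_id, Iso.inv_hom_id, subMap_id]

/-- Morphisms from the structure module into a restriction kill the ideal. -/
theorem idealModι_comp_eq_zero (J : X.IdealSheafData) {L : X.Modules} (hL : PicF.IsInvertible L)
    (t : Coh.structureModule X ⟶ CohB1.tensorMod (ClSub.quotMod J) L) : ClSub.idealModι J ≫ t = 0 := by
  obtain ⟨e⟩ := H10Coh.Tw.nonempty_push_tensor_iso J.subschemeι (Coh.structureModule J.subscheme) hL
  let e' : CohB1.tensorMod (ClSub.quotMod J) L ≅ _ := e
  rw [← cancel_mono e'.hom, zero_comp, Category.assoc]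
  generalize t ≫ e'.hom = u
  refine Scheme.Modules.hom_ext _ _ fun W => ?_
  ext a
  show u.app W ((ClSub.idealModι J).app W a) = 0
  let c : Γ(X, W) := (ClSub.idealModι J).app W a
  have hc : J.subschemeι.app W c = 0 :=
    congr($(congrArg (fun φ => Scheme.Modules.Hom.app φ W) (kernel.condition (ClSub.toSubscheme J))) a)
  show u.app W (show Γ(Coh.structureModule X, W) from c) = 0
  rw [H06Mod.app_unit u W c]
  let m : Γ(CohB1.tensorMod (Coh.structureModule J.subscheme) ((Scheme.Modules.pullback J.subschemeι).obj L),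
    J.subschemeι ⁻¹ᵁ W) := ((Coh.push J.subschemeι).obj (CohB1.tensorMod (Coh.structureModule J.subscheme)
      ((Scheme.Modules.pullback J.subschemeι).obj L))).presheaf.map (homOfLE (le_top : W ≤ ⊤)).op
        (u.app ⊤ (1 : Γ(X, ⊤)))
  show J.subschemeι.app W c • m = 0
  rw [hc, zero_smul]

theorem sub_kills (Z : X.IdealSheafData) {L : X.Modules} (hL : PicF.IsInvertible L) (W : Closeds X)
    (s : Coh.structureModule X ⟶ sub Z (res L W)) : ClSub.idealModι (idl W) ≫ s = 0 := by
  rw [← cancel_mono (subι Z (res L W)), zero_comp, Category.assoc]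
  exact idealModι_comp_eq_zero _ hL _

/-- Morphisms out of a quotient of the structure module. -/
theorem exists_desc (J : X.IdealSheafData) {M : X.Modules} (s : Coh.structureModule X ⟶ M)
    (h : ClSub.idealModι J ≫ s = 0) : ∃ s' : ClSub.quotMod J ⟶ M, ClSub.toSubscheme J ≫ s' = s := by
  haveI := H10Coh.epi_toSubscheme J
  exact ⟨_, (CokernelCofork.IsColimit.desc' (H10Coh.shortExact_kernel (ClSub.toSubscheme J)).gIsCokernel s h).2⟩

end Groth.Agent.H29CurveDual.Subcurve
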